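import Groth.Agent.BunMod.K140.Defs3
import Groth.Agent.Coherent.K585.KronK

/-!
# BunMod team, part B: assembly, first part

* `KFacts`: the facts about Kronecker modules (base change, change of frames, lifting, orbits) used here;
* `SubRep`: a closed subscheme of the scheme of good Kronecker modules representing a subproblem `Q`;
* `act`: the action of pairs of matrices of functions on the points of a `SubRep`.
-/

set_option autoImplicit false

universe u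

open CategoryTheory CategoryTheory.Limits AlgebraicGeometry TensorProduct

namespace K140.BM

section Coords

variable {k : Type u} [Field k] {a b h : ℕ}

theorem kcrd_comp {T T' : Scheme.{u}} (g : T' ⟶ T) (x : T ⟶ 𝔸(KIdx.{u} a b h; B0 k)) :
    kcrd k (g ≫ x) = kmap g.appTop.hom (kcrd k x) := by
  funext i
  ext j l
  simp [kcrd, kmap]

theorem kcrd_ext {T : Scheme.{u}} {x y : T ⟶ 𝔸(KIdx.{u} a b h; B0 k)}
    (h₁ : x ≫ (𝔸(KIdx.{u} a b h; B0 k) ↘ B0 k) = y ≫ (𝔸(KIdx.{u} a b h; B0 k) ↘ B0 k))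
    (h₂ : kcrd k x = kcrd k y) : x = y := by
  refine AffineSpace.hom_ext h₁ ?_
  rintro ⟨i, j, l⟩
  exact congrFun (congrFun (congrFun h₂ i) j) l

theorem kmap_kmap {A B C : Type*} [CommRing A] [CommRing B] [CommRing C] (f : A →+* B) (g : B →+* C)
    (α : Kr a b h A) : kmap g (kmap f α) = kmap (g.comp f) α := by
  funext i
  ext j l
  simp [kmap]

theorem kmap_kact {A B : Type*} [CommRing A] [CommRing B] (f : A →+* B) (u : Matrix (Fin b) (Fin b) A)
    (v : Matrix (Fin a) (Fin a) A) (α : Kr a b h A) : kmap f (kact u v α) = kact (u.map f) (v.map f) (kmap f α) := by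
  funext i
  simp [kmap, kact, Matrix.map_mul]

theorem kact_kact {A : Type*} [CommRing A] (u u' : Matrix (Fin b) (Fin b) A)
    (v v' : Matrix (Fin a) (Fin a) A) (α : Kr a b h A) : kact u v (kact u' v' α) = kact (u * u') (v' * v) α := by
  funext i
  simp [kact, Matrix.mul_assoc]

theorem kact_one {A : Type*} [CommRing A] (α : Kr a b h A) : kact 1 1 α = α := by
  funext i
  simp [kact]

end Coords

section Curve

variable {k : Type u} [Field k] {X : Scheme.{u}} [X.Over (Spec (CommRingCat.of k))]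

/-- The facts about Kronecker modules used in the assembly. -/
structure KFacts (S : KSet X) (r a b : ℕ) : Prop where
  pull : ∀ {T T' : Over (B0 k)} (g : T' ⟶ T) (α : Kr a b S.h Γ(T.left, ⊤)),
    Nonempty (pl k X g (KE S.toKDat T α) ≅ KE S.toKDat T' (kmap g.left.appTop.hom α))
  good_pull : ∀ {T T' : Over (B0 k)} (g : T' ⟶ T) (α : Kr a b S.h Γ(T.left, ⊤)),
    KGood S.toKDat r T α → KGood S.toKDat r T' (kmap g.left.appTop.hom α)
  act : ∀ {T : Over (B0 k)} (α : Kr a b S.h Γ(T.left, ⊤)) (u : GL (Fin b) Γ(T.left, ⊤))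
    (v : GL (Fin a) Γ(T.left, ⊤)), Nonempty (KE S.toKDat T (kact u.1 v.1 α) ≅ KE S.toKDat T α)
  good_act : ∀ {T : Over (B0 k)} (α : Kr a b S.h Γ(T.left, ⊤)), KGood S.toKDat r T α →
    ∀ (u : GL (Fin b) Γ(T.left, ⊤)) (v : GL (Fin a) Γ(T.left, ⊤)), KGood S.toKDat r T (kact u.1 v.1 α)
  lift : ∀ (T : Over (B0 k)) (F : (PicF.XT (st k X) T).Modules), BunMod.ussOK (st k X) r 0 T F → ∀ t : T.left,
    ∃ (U : T.left.Opens) (α : Kr a b S.h Γ((opn T U).left, ⊤)), t ∈ U ∧ KGood S.toKDat r (opn T U) α ∧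
      Nonempty (KE S.toKDat (opn T U) α ≅ pl k X (opi T U) F)
  orb : ∀ (T : Over (B0 k)) (α α' : Kr a b S.h Γ(T.left, ⊤)), KGood S.toKDat r T α → KGood S.toKDat r T α' →
    Nonempty (KE S.toKDat T α ≅ KE S.toKDat T α') →
    ∃ (u : GL (Fin b) Γ(T.left, ⊤)) (v : GL (Fin a) Γ(T.left, ⊤)), α' = kact u.1 v.1 α

/-- The conditions on a subproblem. -/
structure SubProb (k : Type u) [Field k] (X : Scheme.{u}) [X.Over (Spec (CommRingCat.of k))] (r : ℕ)
    (Q : ∀ T : Over (B0 k), (ModFun.modProb (st k X)).Fam T → Prop) : Prop where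
  le : ∀ T F, Q T F → BunMod.ussOK (st k X) r 0 T F
  iso : ∀ (T : Over (B0 k)) (F F' : (PicF.XT (st k X) T).Modules), Nonempty (F ≅ F') → Q T F → Q T F'
  pull : ∀ {T T' : Over (B0 k)} (g : T' ⟶ T) (F : (PicF.XT (st k X) T).Modules), Q T F → Q T' (pl k X g F)

/-- A closed subscheme of the scheme of good Kronecker modules representing the subproblem `Q`. -/
structure SubRep {S : KSet X} {r a b : ℕ} (K : KRep (k := k) S.toKDat r a b)
    (Q : ∀ T : Over (B0 k), (ModFun.modProb (st k X)).Fam T → Prop) where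
  /-- the closed subscheme -/
  Z : Over (B0 k)
  /-- the closed immersion -/
  i : Z ⟶ K.Z
  cl : IsClosedImmersion i.left
  ok : Q Z (KE S.toKDat Z (kcrd k (i.left ≫ K.j)))
  lift : ∀ (T : Over (B0 k)) (c : T ⟶ K.Z), Q T (KE S.toKDat T (kcrd k (c.left ≫ K.j))) →
    ∃ c' : T ⟶ Z, c' ≫ i = c

namespace SubRep

variable {S : KSet X} {r a b : ℕ} {K : KRep (k := k) S.toKDat r a b}
  {Q : ∀ T : Over (B0 k), (ModFun.modProb (st k X)).Fam T → Prop} (R : SubRep K Q)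

/-- The immersion in the affine space of Kronecker modules. -/
noncomputable def j : R.Z.left ⟶ 𝔸(KIdx.{u} a b S.h; B0 k) := R.i.left ≫ K.j

instance : IsImmersion R.j := by
  have := R.cl
  have := K.imm
  unfold j
  infer_instance

theorem j_w : R.j ≫ (𝔸(KIdx.{u} a b S.h; B0 k) ↘ B0 k) = R.Z.hom := by
  rw [j, Category.assoc, K.w, Over.w]

/-- The Kronecker module of a point. -/
noncomputable def kr {T : Over (B0 k)} (c : T ⟶ R.Z) : Kr a b S.h Γ(T.left, ⊤) := kcrd k (c.left ≫ R.j)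

theorem kr_comp {T T' : Over (B0 k)} (g : T' ⟶ T) (c : T ⟶ R.Z) :
    R.kr (g ≫ c) = kmap g.left.appTop.hom (R.kr c) := by
  rw [kr, kr, Over.comp_left, Category.assoc, kcrd_comp]

theorem kr_eq {T : Over (B0 k)} (c : T ⟶ R.Z) : R.kr c = kmap c.left.appTop.hom (R.kr (𝟙 R.Z)) := by
  rw [← kr_comp, Category.comp_id]

theorem kr_inj {T : Over (B0 k)} {c c' : T ⟶ R.Z} (h : R.kr c = R.kr c') : c = c' := by
  apply Over.OverMorphism.ext
  rw [← cancel_mono R.j]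
  apply kcrd_ext _ h
  rw [Category.assoc, Category.assoc, j_w, Over.w, Over.w]

/-- The family. -/
noncomputable def E : (PicF.XT (st k X) R.Z).Modules := KE S.toKDat R.Z (R.kr (𝟙 R.Z))

theorem ok' : Q R.Z R.E := by
  have := R.ok
  rwa [show kcrd k (R.i.left ≫ K.j) = R.kr (𝟙 R.Z) from by rw [kr, Over.id_left, Category.id_comp, j]] at this

theorem pl_E (hF : KFacts (k := k) S r a b) {T : Over (B0 k)} (c : T ⟶ R.Z) :
    Nonempty (pl k X c R.E ≅ KE S.toKDat T (R.kr c)) := by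
  rw [kr_eq]
  exact hF.pull c _

theorem good (hF : KFacts (k := k) S r a b) {T : Over (B0 k)} (c : T ⟶ R.Z) : KGood S.toKDat r T (R.kr c) := by
  have h : R.kr c = kmap (c ≫ R.i).left.appTop.hom (kcrd k K.j) := by
    rw [← kcrd_comp, kr, j, Over.comp_left, Category.assoc]
  rw [h]
  exact hF.good_pull _ _ K.good

theorem prob (hF : KFacts (k := k) S r a b) (hQ : SubProb k X r Q) {T : Over (B0 k)} (c : T ⟶ R.Z) :
    Q T (KE S.toKDat T (R.kr c)) :=
  hQ.iso _ _ _ (R.pl_E hF c) (hQ.pull c _ R.ok')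

theorem exists_kr {T : Over (B0 k)} (α : Kr a b S.h Γ(T.left, ⊤)) (h : KGood S.toKDat r T α)
    (hα : Q T (KE S.toKDat T α)) : ∃ c : T ⟶ R.Z, R.kr c = α := by
  obtain ⟨c, hc⟩ := K.lift T α h
  obtain ⟨c', hc'⟩ := R.lift T c (by rwa [hc])
  refine ⟨c', ?_⟩
  rw [kr, j, ← Category.assoc, ← Over.comp_left, hc', hc]

theorem exists_act (hF : KFacts (k := k) S r a b) (hQ : SubProb k X r Q) {T : Over (B0 k)}
    (u : GL (Fin b) Γ(T.left, ⊤)) (v : GL (Fin a) Γ(T.left, ⊤)) (c : T ⟶ R.Z) :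
    ∃ c' : T ⟶ R.Z, R.kr c' = kact u.1 (v⁻¹).1 (R.kr c) := by
  refine R.exists_kr _ (hF.good_act _ (R.good hF c) u v⁻¹) ?_
  obtain ⟨e⟩ := hF.act (R.kr c) u v⁻¹
  exact hQ.iso _ _ _ ⟨e.symm⟩ (R.prob hF hQ c)

/-- The action. -/
noncomputable def act (hF : KFacts (k := k) S r a b) (hQ : SubProb k X r Q) {T : Over (B0 k)}
    (u : GL (Fin b) Γ(T.left, ⊤)) (v : GL (Fin a) Γ(T.left, ⊤)) (c : T ⟶ R.Z) : T ⟶ R.Z :=
  (R.exists_act hF hQ u v c).choose

theorem kr_act (hF : KFacts (k := k) S r a b) (hQ : SubProb k X r Q) {T : Over (B0 k)}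
    (u : GL (Fin b) Γ(T.left, ⊤)) (v : GL (Fin a) Γ(T.left, ⊤)) (c : T ⟶ R.Z) :
    R.kr (R.act hF hQ u v c) = kact u.1 (v⁻¹).1 (R.kr c) :=
  (R.exists_act hF hQ u v c).choose_spec

theorem act_nat (hF : KFacts (k := k) S r a b) (hQ : SubProb k X r Q) {T T' : Over (B0 k)} (g : T' ⟶ T)
    (u : GL (Fin b) Γ(T.left, ⊤)) (v : GL (Fin a) Γ(T.left, ⊤)) (c : T ⟶ R.Z) :
    g ≫ R.act hF hQ u v c = R.act hF hQ (Matrix.GeneralLinearGroup.map g.left.appTop.hom u)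
      (Matrix.GeneralLinearGroup.map g.left.appTop.hom v) (g ≫ c) := by
  apply R.kr_inj
  rw [kr_comp, kr_act, kr_act, kmap_kact, kr_comp, ← map_inv]
  rfl

theorem act_one (hF : KFacts (k := k) S r a b) (hQ : SubProb k X r Q) {T : Over (B0 k)} (c : T ⟶ R.Z) :
    R.act hF hQ 1 1 c = c := by
  apply R.kr_inj
  rw [kr_act, inv_one]
  exact kact_one _

theorem act_mul (hF : KFacts (k := k) S r a b) (hQ : SubProb k X r Q) {T : Over (B0 k)}
    (u u' : GL (Fin b) Γ(T.left, ⊤)) (v v' : GL (Fin a) Γ(T.left, ⊤)) (c : T ⟶ R.Z) :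
    R.act hF hQ (u * u') (v * v') c = R.act hF hQ u v (R.act hF hQ u' v' c) := by
  apply R.kr_inj
  rw [kr_act, kr_act, kr_act, kact_kact, mul_inv_rev]
  rfl

theorem act_E (hF : KFacts (k := k) S r a b) (hQ : SubProb k X r Q) {T : Over (B0 k)}
    (u : GL (Fin b) Γ(T.left, ⊤)) (v : GL (Fin a) Γ(T.left, ⊤)) (c : T ⟶ R.Z) :
    Nonempty (pl k X (R.act hF hQ u v c) R.E ≅ pl k X c R.E) := by
  obtain ⟨e₁⟩ := R.pl_E hF (R.act hF hQ u v c)
  obtain ⟨e₂⟩ := R.pl_E hF c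
  obtain ⟨e₃⟩ := hF.act (R.kr c) u v⁻¹
  exact ⟨e₁ ≪≫ eqToIso (by rw [kr_act]) ≪≫ e₃ ≪≫ e₂.symm⟩

theorem orb (hF : KFacts (k := k) S r a b) (hQ : SubProb k X r Q) {T : Over (B0 k)} (c c' : T ⟶ R.Z)
    (h : Nonempty (pl k X c R.E ≅ pl k X c' R.E)) :
    ∃ (u : GL (Fin b) Γ(T.left, ⊤)) (v : GL (Fin a) Γ(T.left, ⊤)), c' = R.act hF hQ u v c := by
  obtain ⟨e⟩ := h
  obtain ⟨e₁⟩ := R.pl_E hF c
  obtain ⟨e₂⟩ := R.pl_E hF c'
  obtain ⟨u, v, huv⟩ := hF.orb T _ _ (R.good hF c) (R.good hF c') ⟨e₁.symm ≪≫ e ≪≫ e₂⟩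
  refine ⟨u, v⁻¹, R.kr_inj ?_⟩
  rw [kr_act, huv, inv_inv]

theorem lift' (hF : KFacts (k := k) S r a b) (hQ : SubProb k X r Q) (T : Over (B0 k))
    (F : (PicF.XT (st k X) T).Modules) (h : Q T F) (t : T.left) :
    ∃ (U : T.left.Opens) (c : opn T U ⟶ R.Z), t ∈ U ∧ Nonempty (pl k X c R.E ≅ pl k X (opi T U) F) := by
  obtain ⟨U, α, hU, hα, ⟨e⟩⟩ := hF.lift T F (hQ.le _ _ h) t
  obtain ⟨c, hc⟩ := R.exists_kr α hα (hQ.iso _ _ _ ⟨e.symm⟩ (hQ.pull _ _ h))
  obtain ⟨e₁⟩ := R.pl_E hF c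
  exact ⟨U, c, hU, ⟨e₁ ≪≫ eqToIso (by rw [hc]) ≪≫ e⟩⟩

end SubRep

end Curve

end K140.BM
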