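import Groth.Agent.BunMod.K140.Asm1
import Groth.Agent.Ega3B.ProjProper

/-!
# BunMod team, part B: assembly, second part: the quotient
-/

set_option autoImplicit false

universe u

open CategoryTheory CategoryTheory.Limits AlgebraicGeometry TensorProduct

namespace K140.BM

open K585.KronK (AS prS crd sOf pt actS fn ssOpen Pack IsAct IsStable Rel IsQuot)

section Coords

variable {k : Type u} [Field k] {a b h : ℕ}

theorem crd_eq_kcrd {T : Scheme.{u}} (x : T ⟶ AS a b h (B0 k)) : crd x = kcrd k x := rfl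

theorem act_eq_kact {B : Type*} [CommRing B] (u : Matrix (Fin b) (Fin b) B) (v : Matrix (Fin a) (Fin a) B)
    (α : Kr a b h B) : K585.KronK.act u v α = kact u v α := rfl

theorem kcrd_pt {T : Scheme.{u}} (t : T ⟶ B0 k) (α : Kr a b h Γ(T, ⊤)) : kcrd k (pt t α) = α := by
  funext i
  ext j l
  exact AffineSpace.homOfVector_appTop_coord t _ _

theorem pt_over {T : Scheme.{u}} (t : T ⟶ B0 k) (α : Kr a b h Γ(T, ⊤)) :
    pt t α ≫ prS a b h (B0 k) = t :=
  AffineSpace.homOfVector_over _ _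

/-- The structure map `k →+* Γ(T, ⊤)`. -/
theorem sOf_comp {T T' : Scheme.{u}} (g : T' ⟶ T) (t : T ⟶ B0 k) :
    (sOf (g ≫ t) : k →+* Γ(T', ⊤)) = g.appTop.hom.comp (sOf t) := by
  ext x
  simp [sOf]

theorem actS_over (u : Matrix (Fin b) (Fin b) k) (v : Matrix (Fin a) (Fin a) k) :
    actS (h := h) (𝟙 (B0 k)) u v ≫ prS a b h (B0 k) = prS a b h (B0 k) := pt_over _ _

theorem kcrd_actS {T : Scheme.{u}} (x : T ⟶ AS a b h (B0 k)) (u : Matrix (Fin b) (Fin b) k)
    (v : Matrix (Fin a) (Fin a) k) :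
    kcrd k (x ≫ actS (𝟙 (B0 k)) u v) =
      kact (u.map (sOf (x ≫ prS a b h (B0 k)))) (v.map (sOf (x ≫ prS a b h (B0 k)))) (kcrd k x) := by
  rw [kcrd_comp, actS, kcrd_pt, act_eq_kact, kmap_kact, Category.comp_id, crd_eq_kcrd, ← kcrd_comp,
    Category.comp_id, sOf_comp]
  simp only [Matrix.map_map]
  rfl

end Coords

section Curve

variable {k : Type u} [Field k] {X : Scheme.{u}} [X.Over (Spec (CommRingCat.of k))]

namespace SubRep

variable {S : KSet X} {r a b : ℕ} {K : KRep (k := k) S.toKDat r a b}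
  {Q : ∀ T : Over (B0 k), (ModFun.modProb (st k X)).Fam T → Prop} (R : SubRep K Q)
  (hF : KFacts (k := k) S r a b) (hQ : SubProb k X r Q)

/-- The action of matrices over `k` on `Z`. -/
noncomputable def γ (u : GL (Fin b) k) (v : GL (Fin a) k) : R.Z ⟶ R.Z :=
  R.act hF hQ (matT R.Z u) (matT R.Z v) (𝟙 R.Z)

theorem γ_j (u : GL (Fin b) k) (v : GL (Fin a) k) :
    (R.γ hF hQ u v).left ≫ R.j = R.j ≫ actS (𝟙 (B0 k)) u.1 (v⁻¹).1 := by
  apply kcrd_ext
  · rw [Category.assoc, Category.assoc, j_w, Over.w]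
    erw [actS_over]
    rw [j_w]
  · rw [kcrd_actS]
    change R.kr (R.γ hF hQ u v) = _
    rw [γ, kr_act, kr, Over.id_left, Category.id_comp]
    have h1 : R.j ≫ prS a b S.h (B0 k) = R.Z.hom := R.j_w
    rw [h1, matT, matT, ← map_inv]
    rfl

theorem isAct_iff (g : R.Z.left ⟶ R.Z.left) :
    IsAct (K := k) (𝟙 (B0 k)) R.j g ↔ ∃ (u : GL (Fin b) k) (v : GL (Fin a) k), g = (R.γ hF hQ u v).left := by
  constructor
  · rintro ⟨u, v, hu, hv, h⟩
    let u' : GL (Fin b) k := Matrix.GeneralLinearGroup.mkOfDetNeZero u hu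
    let v' : GL (Fin a) k := Matrix.GeneralLinearGroup.mkOfDetNeZero v hv
    refine ⟨u', v'⁻¹, ?_⟩
    rw [← cancel_mono R.j, h, γ_j, inv_inv]
    rfl
  · rintro ⟨u, v, rfl⟩
    refine ⟨u.1, (v⁻¹).1, ?_, ?_, R.γ_j hF hQ u v⟩
    · exact (Matrix.isUnit_iff_isUnit_det u.1).mp u.isUnit |>.ne_zero
    · exact (Matrix.isUnit_iff_isUnit_det (v⁻¹).1).mp (v⁻¹).isUnit |>.ne_zero

include hF hQ in
theorem isStable : IsStable (K := k) (𝟙 (B0 k)) R.j := by
  intro u v hu hv
  let u' : GL (Fin b) k := Matrix.GeneralLinearGroup.mkOfDetNeZero u hu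
  let v' : GL (Fin a) k := Matrix.GeneralLinearGroup.mkOfDetNeZero v hv
  exact ⟨(R.γ hF hQ u' v'⁻¹).left, by rw [γ_j, inv_inv]; rfl⟩

theorem rel_act {T : Over (B0 k)} (u : GL (Fin b) Γ(T.left, ⊤)) (v : GL (Fin a) Γ(T.left, ⊤)) (c : T ⟶ R.Z) :
    Rel R.j c.left (R.act hF hQ u v c).left := by
  refine ⟨?_, u.1, (v⁻¹).1, u.isUnit, (v⁻¹).isUnit, R.kr_act hF hQ u v c⟩
  have h1 : R.j ≫ prS a b S.h (B0 k) = R.Z.hom := R.j_w
  rw [h1, Over.w, Over.w]

section Quot

variable {m : ℕ} {M : Scheme.{u}} {c : M ⟶ CohB1.ProjSpaceOver m (B0 k)} {π : R.Z.left ⟶ M}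
  (q : IsQuot (K := k) (𝟙 (B0 k)) R.j c π)

/-- The quotient as a scheme over `k`. -/
noncomputable abbrev quo (c : M ⟶ CohB1.ProjSpaceOver m (B0 k)) : Over (B0 k) :=
  Over.mk (c ≫ CohB1.ProjSpaceOver.toBase m (B0 k))

/-- The quotient morphism over `k`. -/
noncomputable abbrev quoπ : R.Z ⟶ quo c :=
  Over.homMk π (by
    change π ≫ c ≫ CohB1.ProjSpaceOver.toBase m (B0 k) = R.Z.hom
    rw [q.comp, ← R.j_w])

include hF hQ in
theorem act_quoπ {T : Over (B0 k)} (u : GL (Fin b) Γ(T.left, ⊤)) (v : GL (Fin a) Γ(T.left, ⊤)) (x : T ⟶ R.Z) :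
    R.act hF hQ u v x ≫ R.quoπ q = x ≫ R.quoπ q := by
  apply Over.OverMorphism.ext
  exact (q.rel T.left x.left (R.act hF hQ u v x).left (R.rel_act hF hQ u v x)).symm

instance : LocallyOfFiniteType R.Z.hom := by
  have h1 : LocallyOfFiniteType (𝔸(KIdx.{u} a b S.h; B0 k) ↘ B0 k) := inferInstance
  rw [← R.j_w]
  infer_instance

instance : IsLocallyNoetherian (𝔸(KIdx.{u} a b S.h; B0 k)) :=
  LocallyOfFiniteType.isLocallyNoetherian (𝔸(KIdx.{u} a b S.h; B0 k) ↘ B0 k)

instance : QuasiCompact R.Z.hom := by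
  have h2 : CompactSpace (𝔸(KIdx.{u} a b S.h; B0 k)) :=
    (quasiCompact_iff_compactSpace (f := (𝔸(KIdx.{u} a b S.h; B0 k) ↘ B0 k))).mp inferInstance
  have h3 : IsNoetherian (𝔸(KIdx.{u} a b S.h; B0 k)) := {}
  have h4 : TopologicalSpace.NoetherianSpace R.Z.left :=
    (Scheme.Hom.isEmbedding R.j).isInducing.noetherianSpace
  have h5 : CompactSpace R.Z.left := inferInstance
  exact (quasiCompact_iff_compactSpace (f := R.Z.hom)).mpr h5

instance : IsSeparated R.Z.hom := by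
  rw [← R.j_w]
  infer_instance

/-- The Reynolds operators over an affine cover, a hypothesis on the quotient. -/
def HasCharts : Prop := ∀ m : (quo c).left, ∃ V : (quo c).left.Opens, m ∈ V ∧ IsAffineOpen V ∧
  IsReynolds (R.quoπ q) (fun g => ∃ (u : GL (Fin b) k) (v : GL (Fin a) k), g = R.γ hF hQ u v) V

/-- The atlas. -/
noncomputable def atlas (hc : R.HasCharts hF hQ q) : AtlasC k X Q where
  Z := R.Z
  M := quo c
  E := R.E
  π := R.quoπ q
  ok := R.ok'
  lift := R.lift' hF hQ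
  a := a
  b := b
  act := R.act hF hQ
  act_nat := R.act_nat hF hQ
  act_one := R.act_one hF hQ
  act_mul := R.act_mul hF hQ
  act_E := R.act_E hF hQ
  orb := R.orb hF hQ
  ft := inferInstance
  qc := inferInstance
  sep := inferInstance
  aff := q.affine
  prop := by
    have := q.closed
    have := Groth.Agent.Ega3B.ProjProper.isProper_toBase m (B0 k)
    change IsProper (c ≫ CohB1.ProjSpaceOver.toBase m (B0 k))
    infer_instance
  surj := q.surj.surj
  act_π := R.act_quoπ hF hQ q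
  functions := by
    intro V hV
    obtain ⟨r, h1, h2, h3⟩ := q.reynolds V hV
    have h4 : ∀ x, r (π.app V x) = x := by
      intro x
      have := h2 x 1
      rwa [mul_one, h1, mul_one] at this
    refine ⟨fun x y hxy => ?_, fun f hf => ⟨r f, ?_⟩⟩
    · rw [← h4 x, ← h4 y]
      exact congrArg r hxy
    · apply h3
      intro g hg e
      obtain ⟨u, v, rfl⟩ := (R.isAct_iff hF hQ g).mp hg
      exact hf u v e
  charts := hc
  isClosed := by
    intro W hW h
    apply q.isClosed W hW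
    intro g hg
    obtain ⟨u, v, rfl⟩ := (R.isAct_iff hF hQ g).mp hg
    exact h u v
  disj := by
    intro W W' hW hW' hd h h'
    apply q.disj W W' hW hW' hd
    · intro g hg
      obtain ⟨u, v, rfl⟩ := (R.isAct_iff hF hQ g).mp hg
      exact h u v
    · intro g hg
      obtain ⟨u, v, rfl⟩ := (R.isAct_iff hF hQ g).mp hg
      exact h' u v
  cat := by
    intro N ψ hψ
    obtain ⟨χ, h1, h2⟩ := q.cat N.left ψ.left (by
      intro g hg
      obtain ⟨u, v, rfl⟩ := (R.isAct_iff hF hQ g).mp hg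
      rw [← Over.comp_left]
      exact congrArg _ (hψ u v))
    obtain ⟨χ', h3, h4⟩ := q.cat (B0 k) R.Z.hom (by
      intro g hg
      obtain ⟨u, v, rfl⟩ := (R.isAct_iff hF hQ g).mp hg
      exact Over.w _)
    have h5 : χ ≫ N.hom = c ≫ CohB1.ProjSpaceOver.toBase m (B0 k) := by
      have h6 : π ≫ χ ≫ N.hom = R.Z.hom := by rw [reassoc_of% h1, Over.w]
      have h7 : π ≫ c ≫ CohB1.ProjSpaceOver.toBase m (B0 k) = R.Z.hom := by rw [q.comp]; exact R.j_w
      rw [h4 _ h6, h4 _ h7]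
    refine ⟨Over.homMk χ h5, Over.OverMorphism.ext h1, fun y hy => Over.OverMorphism.ext (h2 y.left ?_)⟩
    exact congrArg (fun z => z.left) hy

end Quot

end SubRep

end Curve

end K140.BM
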