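import Groth.Agent.BunMod.K140.Closed

/-!
# BunMod team, part B: assembly, third part: subproblems
-/

set_option autoImplicit false

universe u

open CategoryTheory CategoryTheory.Limits AlgebraicGeometry TensorProduct

namespace K140.BM

open K585.KronK (AS prS crd sOf pt actS fn ssOpen Pack IsAct IsStable Rel IsQuot)

section Curve

variable {k : Type u} [Field k] {X : Scheme.{u}} [X.Over (Spec (CommRingCat.of k))]
  {S : KSet X} {r a b : ℕ} {K : KRep (k := k) S.toKDat r a b}
  {Q : ∀ T : Over (B0 k), (ModFun.modProb (st k X)).Fam T → Prop} (R : SubRep K Q)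

theorem SubRep.range_le [IsAlgClosed k] [CharZero k] (hS : KFit k S r a b) (hF : KFacts (k := k) S r a b)
    {m e : ℕ} {f : Fin (m + 1) → K585.KronK.Poly k a b S.h}
    {ρ : K585.KronK.Poly k a b S.h →ₗ[k] K585.KronK.Poly k a b S.h} (P : Pack a b S.h m e f ρ) :
    Set.range R.j ⊆ ssOpen (𝟙 (B0 k)) f := by
  rintro _ ⟨z, rfl⟩
  exact K140.BM.range_le hS hF K P ⟨R.i.left z, rfl⟩

theorem SubRep.exists_closed [IsAlgClosed k] [CharZero k] (hS : KFit k S r a b) (hF : KFacts (k := k) S r a b)
    {m e : ℕ} {f : Fin (m + 1) → K585.KronK.Poly k a b S.h}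
    {ρ : K585.KronK.Poly k a b S.h →ₗ[k] K585.KronK.Poly k a b S.h} (P : Pack a b S.h m e f ρ) :
    ∃ C : Set (AS a b S.h (B0 k)), IsClosed C ∧ Set.range R.j = C ∩ ssOpen (𝟙 (B0 k)) f := by
  have himm := K.imm
  have hcl := R.cl
  have h1 : IsClosed (Set.range R.i.left) := R.i.left.isClosedEmbedding.isClosed_range
  obtain ⟨C, hC, hC'⟩ := (Scheme.Hom.isEmbedding K.j).isInducing.isClosed_iff.mp h1
  refine ⟨C ∩ closure (Set.range K.j), hC.inter isClosed_closure, ?_⟩
  rw [Set.inter_assoc, ← K140.BM.range_eq hS hF K P]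
  have h2 : Set.range R.j = K.j '' Set.range R.i.left := by
    rw [← Set.range_comp]
    rfl
  rw [h2, ← hC', Set.image_preimage_eq_inter_range]

/-- The whole problem. -/
noncomputable def subAll (K : KRep (k := k) S.toKDat r a b) : SubRep K (BunMod.ussOK (st k X) r 0) where
  Z := K.Z
  i := 𝟙 K.Z
  cl := by
    rw [Over.id_left]
    infer_instance
  ok := by
    rw [Over.id_left, Category.id_comp]
    exact K.good.1
  lift := fun T c _ => ⟨c, Category.comp_id c⟩

end Curve

end K140.BM
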