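import Groth.Agent.BunMod.K140.Asm3
import Groth.Agent.BunMod.K311.KVan
import Groth.Agent.BunMod.K311.Lift
import Groth.Agent.Coherent.K739.GoodR
import Groth.Agent.Coherent.K496.KrKing

/-!
# BunMod team, part B: assembly, fourth part: the atlas from the good quotient
-/

set_option autoImplicit false

universe u

open CategoryTheory CategoryTheory.Limits AlgebraicGeometry TensorProduct

namespace K140.BM

open K585.KronK (AS prS crd sOf pt actS fn ssOpen Pack IsAct IsStable Rel IsQuot)

section Curve

variable {k : Type u} [Field k] {X : Scheme.{u}} [X.Over (Spec (CommRingCat.of k))]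

/-- The whole problem is a subproblem. -/
theorem subProb_all (r : ℕ) : SubProb k X r (BunMod.ussOK (st k X) r 0) where
  le := fun _ _ h => h
  iso := fun _ _ _ ⟨e⟩ h => K311.Fam.ussOK_congr e h
  pull := fun g _ h => K311.Fam.ussOK_pull g h

theorem kfacts [IsProper (X ↘ Spec (CommRingCat.of k))] [Smooth (X ↘ Spec (CommRingCat.of k))]
    {S : KSet X} {r a b : ℕ} (hS : KFit k S r a b) :
    KFacts (k := k) S r a b where
  pull := fun g _ => K311.KE.ke_pull _ g
  good_pull := fun g _ h => K311.Fam.kgood_pull g h
  act := fun _ u v => K311.KE.ke_act u v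
  good_act := fun _ h u v => K311.Fam.kgood_act h u v
  lift := fun _ F hF t => K311.Lift.ke_lift hS F hF t
  orb := fun _ _ _ h h' he => K311.KVan.ke_orb hS h h' he

end Curve

end K140.BM
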