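import Groth.Agent.BunMod.K140.Defs
import Mathlib.AlgebraicGeometry.AffineSpace
import Mathlib.RingTheory.DiscreteValuationRing.Basic

/-!
# BunMod team: shared definitions, part B (Kronecker modules and frames)

* `KE.desc`: homomorphisms out of `E_α`;
* `SSB r s E`: `E` is a semistable vector bundle of rank `r` and degree `0` on the geometric fibre `X_Ω`;
* `tpt s`: the test scheme `Spec Ω` (or any affine test scheme) over `Spec k`; `kOf`: `Kr` over a ring `B` as `Kr` over
  `Γ(Spec B, ⊤)`;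
* `KSet`: `KDat` with inverses `N₁ = O(n)`, `N₂ = O(m)`;
* `KFit S r a b`: the numerical / cohomological facts about `S` on which the construction of the atlas rests;
* `KRep`: the scheme of good Kronecker modules.
-/

set_option autoImplicit false

universe u

open CategoryTheory CategoryTheory.Limits AlgebraicGeometry TensorProduct

namespace K140.BM

open Groth.Agent.LoccohB.HHmap

section Curve

variable {k : Type u} [Field k] {X : Scheme.{u}} [X.Over (Spec (CommRingCat.of k))]

/-- Homomorphisms out of `E_α` from tuples. -/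
noncomputable def KE.desc (D : KDat X) {a b : ℕ} (T : Over (B0 k)) (α : Kr a b D.h Γ(T.left, ⊤))
    {F : (PicF.XT (st k X) T).Modules} (v : Fin a → (cst k T D.L₁ ⟶ F)) (w : Fin b → (cst k T D.L₂ ⟶ F))
    (hr : ∀ (l : Fin a) (i : Fin D.h), (Scheme.Modules.pullback (pullback.fst (st k X) T.hom)).map (D.s i) ≫ v l =
      ∑ j, smulHom _ (fT k X T (α i j l)) ≫ w j) : KE D T α ⟶ F :=
  cokernel.desc (KE.rel D T α) (biprod.desc (biproduct.desc v) (biproduct.desc w)) (by
    apply biproduct.hom_ext'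
    rintro ⟨l, i⟩
    have h1 := hr l i
    simp only [KE.rel, biproduct.ι_desc_assoc, comp_zero]
    rw [biprod.lift_desc, Category.assoc, biproduct.ι_desc, h1, Preadditive.neg_comp, Preadditive.sum_comp,
      add_neg_eq_zero]
    refine Finset.sum_congr rfl fun j _ => ?_
    rw [Category.assoc, biproduct.ι_desc])

/-- An affine test scheme. -/
noncomputable abbrev tpt {B : Type u} [CommRing B] (s : Spec (CommRingCat.of B) ⟶ B0 k) : Over (B0 k) := Over.mk s

/-- Elements of `B` as functions on `Spec B`. -/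
noncomputable def kOf (B : Type u) [CommRing B] : B →+* Γ(Spec (CommRingCat.of B), ⊤) :=
  (Scheme.ΓSpecIso (CommRingCat.of B)).inv.hom

/-- `E` is a semistable vector bundle of rank `r` and degree `0` on the fibre `X_Ω` over the field `Ω`. -/
def SSB (r : ℕ) {Ω : Type u} [Field Ω] (s : Spec (CommRingCat.of Ω) ⟶ B0 k)
    (E : (PicF.XT (st k X) (tpt s)).Modules) : Prop :=
  letI : (PicF.XT (st k X) (Over.mk s)).Over (Spec (CommRingCat.of Ω)) := ⟨PicF.XTproj (st k X) (Over.mk s)⟩
  FlatMod.IsFinLocFreeOfRank r E ∧ Curv2.deg Ω (PicF.XT (st k X) (Over.mk s)) E r = 0 ∧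
    ModFun.IsSlopeSemistable Ω (PicF.XT (st k X) (Over.mk s)) E r

/-- `KDat` with inverses of `L₁`, `L₂`. -/
structure KSet (X : Scheme.{u}) extends KDat X where
  /-- `O(n)` -/
  N₁ : X.Modules
  /-- `O(m)` -/
  N₂ : X.Modules
  inv₁ : Nonempty (CohB1.tensorMod L₁ N₁ ≅ Coh.structureModule X)
  inv₂ : Nonempty (CohB1.tensorMod L₂ N₂ ≅ Coh.structureModule X)
  invertible₁ : PicF.IsInvertible L₁
  invertible₂ : PicF.IsInvertible L₂

variable (k)

/-- The facts about `S` (i.e. about `0 ≪ n ≪ m`) on which the construction of the atlas rests. -/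
structure KFit (S : KSet X) (r a b : ℕ) : Prop where
  pos_a : 0 < a
  pos_b : 0 < b
  /-- `(s_i)` is a basis of `Hom(L₂, L₁)`, after every extension of algebraically closed fields -/
  basis : ∀ (Ω : Type u) [Field Ω] [IsAlgClosed Ω] (s : Spec (CommRingCat.of Ω) ⟶ B0 k),
    HomBasis (PicF.XTproj (st k X) (tpt s))
      (fun i : Fin S.h => (Scheme.Modules.pullback (pullback.fst (st k X) (tpt s).hom)).map (S.s i))
  /-- `H¹(E(n)) = 0` -/
  van₁ : ∀ (Ω : Type u) [Field Ω] [IsAlgClosed Ω] (s : Spec (CommRingCat.of Ω) ⟶ B0 k)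
    (E : (PicF.XT (st k X) (tpt s)).Modules), SSB r s E →
      Subsingleton (Coh.HH _ (CohB1.tensorMod E (cst k (tpt s) S.N₁)) 1)
  /-- `H¹(E(m)) = 0` -/
  van₂ : ∀ (Ω : Type u) [Field Ω] [IsAlgClosed Ω] (s : Spec (CommRingCat.of Ω) ⟶ B0 k)
    (E : (PicF.XT (st k X) (tpt s)).Modules), SSB r s E →
      Subsingleton (Coh.HH _ (CohB1.tensorMod E (cst k (tpt s) S.N₂)) 1)
  /-- `h⁰(E(n)) = a` -/
  h0₁ : ∀ (Ω : Type u) [Field Ω] [IsAlgClosed Ω] (s : Spec (CommRingCat.of Ω) ⟶ B0 k)
    (E : (PicF.XT (st k X) (tpt s)).Modules), SSB r s E →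
      ∃ v : Fin a → (cst k (tpt s) S.L₁ ⟶ E), HomBasis (PicF.XTproj (st k X) (tpt s)) v
  /-- `h⁰(E(m)) = b` -/
  h0₂ : ∀ (Ω : Type u) [Field Ω] [IsAlgClosed Ω] (s : Spec (CommRingCat.of Ω) ⟶ B0 k)
    (E : (PicF.XT (st k X) (tpt s)).Modules), SSB r s E →
      ∃ w : Fin b → (cst k (tpt s) S.L₂ ⟶ E), HomBasis (PicF.XTproj (st k X) (tpt s)) w
  /-- the presentation of `E` by its Kronecker module -/
  pres : ∀ (Ω : Type u) [Field Ω] [IsAlgClosed Ω] (s : Spec (CommRingCat.of Ω) ⟶ B0 k)
    (E : (PicF.XT (st k X) (tpt s)).Modules), SSB r s E →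
    ∀ (v : Fin a → (cst k (tpt s) S.L₁ ⟶ E)) (w : Fin b → (cst k (tpt s) S.L₂ ⟶ E)),
      HomBasis (PicF.XTproj (st k X) (tpt s)) v → HomBasis (PicF.XTproj (st k X) (tpt s)) w →
      ∀ (α : Kr a b S.h Γ((tpt s).left, ⊤)) (hr : ∀ (l : Fin a) (i : Fin S.h),
        (Scheme.Modules.pullback (pullback.fst (st k X) (tpt s).hom)).map (S.s i) ≫ v l =
          ∑ j, smulHom _ (fT k X (tpt s) (α i j l)) ≫ w j), IsIso (KE.desc S.toKDat (tpt s) α v w hr)
  /-- King's condition for the Kronecker module of a semistable bundle -/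
  king : ∀ (Ω : Type u) [Field Ω] [IsAlgClosed Ω] (s : Spec (CommRingCat.of Ω) ⟶ B0 k) (α : Kr a b S.h Ω),
    KGood S.toKDat r (tpt s) (kmap (kOf Ω) α) → IsKing α
  /-- the good locus is closed in the locus of King's condition -/
  closed : ∀ (R : Type u) [CommRing R] [IsDomain R] [IsDiscreteValuationRing R] [Algebra k R],
    Function.Bijective (algebraMap k (IsLocalRing.ResidueField R)) → ∀ α : Kr a b S.h R,
    KGood S.toKDat r (tpt (k := k) (Spec.map (CommRingCat.ofHom (algebraMap k (FractionRing R)))))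
      (kmap ((kOf (FractionRing R)).comp (algebraMap R (FractionRing R))) α) →
    IsKing (kmap (IsLocalRing.residue R) α) →
    KGood S.toKDat r (tpt (k := k) (Spec.map (CommRingCat.ofHom (algebraMap k (IsLocalRing.ResidueField R)))))
      (kmap ((kOf (IsLocalRing.ResidueField R)).comp (IsLocalRing.residue R)) α)

/-- Index set of the coordinates of Kronecker modules. -/
abbrev KIdx (a b h : ℕ) : Type u := ULift.{u} (Fin h × Fin b × Fin a)

/-- The coordinates of a morphism to the affine space of Kronecker modules. -/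
noncomputable def kcrd {a b h : ℕ} {T : Scheme.{u}} (x : T ⟶ 𝔸(KIdx.{u} a b h; B0 k)) :
    Kr a b h Γ(T, ⊤) := fun i j l => x.appTop (AffineSpace.coord (B0 k) ⟨(i, j, l)⟩)

/-- The scheme of good Kronecker modules: an immersion into affine space representing `KGood`. -/
structure KRep (D : KDat X) (r a b : ℕ) where
  /-- the scheme -/
  Z : Over (B0 k)
  /-- the immersion -/
  j : Z.left ⟶ 𝔸(KIdx.{u} a b D.h; B0 k)
  imm : IsImmersion j
  w : j ≫ (𝔸(KIdx.{u} a b D.h; B0 k) ↘ B0 k) = Z.hom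
  good : KGood D r Z (kcrd k j)
  lift : ∀ (T : Over (B0 k)) (α : Kr a b D.h Γ(T.left, ⊤)), KGood D r T α →
    ∃ c : T ⟶ Z, kcrd k (c.left ≫ j) = α

end Curve

end K140.BM
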