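import Groth.Agent.BunMod.K140.Asm4
import Groth.Agent.BunMod.K739.Charts
import Groth.Agent.BunMod.K757.SubDet
import Groth.Agent.BunMod.K311.Rep

/-!
# BunMod team, part B: assembly, fifth part: the atlases, from `KFit`
-/

set_option autoImplicit false

universe u

open CategoryTheory CategoryTheory.Limits AlgebraicGeometry TensorProduct

namespace K140.BM

section Curve

variable {k : Type u} [Field k] [IsAlgClosed k] [CharZero k] {X : Scheme.{u}} [X.Over (Spec (CommRingCat.of k))]
  [IsProper (X ↘ Spec (CommRingCat.of k))] [Smooth (X ↘ Spec (CommRingCat.of k))]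

/-- The atlas of a subproblem represented by a closed subscheme. -/
theorem SubRep.exists_atlas {S : KSet X} {r a b : ℕ} (hS : KFit k S r a b) {K : KRep (k := k) S.toKDat r a b}
    {Q : ∀ T : Over (B0 k), (ModFun.modProb (st k X)).Fam T → Prop} (R : SubRep K Q) (hQ : SubProb k X r Q) :
    Nonempty (AtlasC k X Q) := by
  obtain ⟨m, e, f, ρ, P⟩ := K496.KrKing.exists_pack k a b S.h hS.pos_a hS.pos_b
  exact K739.Charts.exists_atlas R (kfacts hS) hQ P (R.range_le hS (kfacts hS) P)
    (R.exists_closed hS (kfacts hS) P)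

variable [GeometricallyConnected (X ↘ Spec (CommRingCat.of k))]

/-- The atlas of the moduli problem of semistable bundles of rank `r` and degree `0`. -/
theorem exists_atlasC_of (hdim : topologicalKrullDim X = 1) {r : ℕ} (hr : 1 ≤ r)
    (hfit : ∃ (S : KSet X) (a b : ℕ), KFit k S r a b) :
    Nonempty (AtlasC k X (BunMod.ussOK (st k X) r 0)) := by
  obtain ⟨S, a, b, hS⟩ := hfit
  obtain ⟨K⟩ := K311.Rep.exists_krep hdim hr hS
  exact (subAll K).exists_atlas hS (subProb_all r)

/-- The atlas of the moduli problem of semistable bundles of rank `r` and determinant `L`, of degree `0`. -/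
theorem exists_atlasC_det_of (hdim : topologicalKrullDim X = 1) {r : ℕ} (hr : 1 ≤ r) {L : X.Modules}
    (hL : PicF.IsInvertible L) (hLd : Curv2.deg k X L 1 = 0)
    (hfit : ∃ (S : KSet X) (a b : ℕ), KFit k S r a b) :
    Nonempty (AtlasC k X (BunMod.ussDetOK (st k X) r L)) := by
  obtain ⟨S, a, b, hS⟩ := hfit
  obtain ⟨K⟩ := K311.Rep.exists_krep hdim hr hS
  obtain ⟨R⟩ := K757.SubDet.exists_subRep (r := r) hdim hL hLd K (kfacts hS)
  exact R.exists_atlas hS (K757.SubDet.subProb hdim hL hLd)

end Curve

end K140.BM
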