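import Groth.Agent.BunMod.K140.Asm5
import Groth.Agent.BunMod.K656.Main

/-!
# BunMod team: the atlases of the moduli problems of semistable bundles on a curve

`X` a smooth proper geometrically connected curve over the algebraically closed field `k` of characteristic zero.
* `exists_atlasC`: semistable bundles of rank `r` and degree `0`;
* `exists_atlasC_det`: semistable bundles of rank `r` and determinant `L`, of degree `0`.
-/

set_option autoImplicit false

universe u

open CategoryTheory CategoryTheory.Limits AlgebraicGeometry TensorProduct

namespace K140.BM

variable {k : Type u} [Field k] [IsAlgClosed k] [CharZero k] {X : Scheme.{u}} [X.Over (Spec (CommRingCat.of k))]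
  [IsProper (X ↘ Spec (CommRingCat.of k))] [Smooth (X ↘ Spec (CommRingCat.of k))]
  [GeometricallyConnected (X ↘ Spec (CommRingCat.of k))]

/-- **The atlas of the moduli problem of semistable bundles of rank `r` and degree `0`.** -/
theorem exists_atlasC (hdim : topologicalKrullDim X = 1) {r : ℕ} (hr : 1 ≤ r) :
    Nonempty (AtlasC k X (BunMod.ussOK (st k X) r 0)) :=
  exists_atlasC_of hdim hr (K656.Main.exists_kfit hdim r hr)

/-- **The atlas of the moduli problem of semistable bundles of rank `r` and determinant `L`, of degree `0`.** -/
theorem exists_atlasC_det (hdim : topologicalKrullDim X = 1) {r : ℕ} (hr : 1 ≤ r) {L : X.Modules}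
    (hL : PicF.IsInvertible L) (hLd : Curv2.deg k X L 1 = 0) :
    Nonempty (AtlasC k X (BunMod.ussDetOK (st k X) r L)) :=
  exists_atlasC_det_of hdim hr hL hLd (K656.Main.exists_kfit hdim r hr)

end K140.BM
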