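import Groth.Agent.BunMod.K140.Defs2

/-!
# BunMod team: `AtlasC`, the final form of the atlas (replaces `AtlasG`)

The same as `AtlasG`, with Reynolds operators only over the members of an affine cover of `M` (`charts`), preserving
the stable `k`-subspaces with coefficients, and with the statements about closed stable subsets (`isClosed`, `disj`).
-/

set_option autoImplicit false

universe u

open CategoryTheory CategoryTheory.Limits AlgebraicGeometry TensorProduct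

namespace K140.BM

section

variable {k : Type u} [Field k]

/-- `Γ(Z, W)` as a `k`-algebra. -/
@[reducible] noncomputable def algOn (Z : Over (B0 k)) (W : Z.left.Opens) : Algebra k Γ(Z.left, W) :=
  ((Z.hom.appLE ⊤ W le_top).hom.comp (Scheme.ΓSpecIso (CommRingCat.of k)).inv.hom).toAlgebra

/-- `ρ` is a Reynolds operator on `Γ(Z, π⁻¹V)` for the automorphisms `γ` of `Z` satisfying `IsAct`. -/
def IsReynolds {Z M : Over (B0 k)} (π : Z ⟶ M) (IsAct : (Z ⟶ Z) → Prop) (V : M.left.Opens) : Prop :=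
  letI := algOn Z (π.left ⁻¹ᵁ V)
  ∃ ρ : Γ(Z.left, π.left ⁻¹ᵁ V) →ₗ[k] Γ(Z.left, π.left ⁻¹ᵁ V),
    (∀ f, ∃ h : Γ(M.left, V), π.left.app V h = ρ f) ∧
    (∀ h : Γ(M.left, V), ρ (π.left.app V h) = π.left.app V h) ∧
    (∀ (h : Γ(M.left, V)) (f : Γ(Z.left, π.left ⁻¹ᵁ V)), ρ (π.left.app V h * f) = π.left.app V h * ρ f) ∧
    ∀ (Λ : Type u) [CommRing Λ] [Algebra k Λ] (J : Submodule k (Λ ⊗[k] Γ(Z.left, π.left ⁻¹ᵁ V))),
      (∀ (γ : Z ⟶ Z) (_ : IsAct γ) (τ : Γ(Z.left, π.left ⁻¹ᵁ V) →ₗ[k] Γ(Z.left, π.left ⁻¹ᵁ V))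
        (e : π.left ⁻¹ᵁ V ≤ γ.left ⁻¹ᵁ (π.left ⁻¹ᵁ V)),
        (∀ f, τ f = γ.left.appLE (π.left ⁻¹ᵁ V) (π.left ⁻¹ᵁ V) e f) → J ≤ J.comap (τ.lTensor Λ)) →
      J ≤ J.comap (ρ.lTensor Λ)

end

/-- An atlas of the problem cut out by `Q`, with the action of `GL_b × GL_a` (functor of points), orbits, the good
quotient `π : Z ⟶ M`. -/
structure AtlasC (k : Type u) [Field k] (X : Scheme.{u}) [X.Over (Spec (CommRingCat.of k))]
    (Q : ∀ T : Over (B0 k), (ModFun.modProb (st k X)).Fam T → Prop) where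
  /-- the scheme of frames -/
  Z : Over (B0 k)
  /-- the quotient -/
  M : Over (B0 k)
  /-- the family -/
  E : (PicF.XT (st k X) Z).Modules
  /-- the quotient morphism -/
  π : Z ⟶ M
  ok : Q Z E
  lift : ∀ (T : Over (B0 k)) (F : (PicF.XT (st k X) T).Modules), Q T F → ∀ t : T.left,
    ∃ (U : T.left.Opens) (c : opn T U ⟶ Z), t ∈ U ∧ Nonempty (pl k X c E ≅ pl k X (opi T U) F)
  a : ℕ
  b : ℕ
  /-- the action on `T`-points -/
  act : ∀ {T : Over (B0 k)}, GL (Fin b) Γ(T.left, ⊤) → GL (Fin a) Γ(T.left, ⊤) → (T ⟶ Z) → (T ⟶ Z)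
  act_nat : ∀ {T T' : Over (B0 k)} (g : T' ⟶ T) (u : GL (Fin b) Γ(T.left, ⊤)) (v : GL (Fin a) Γ(T.left, ⊤))
    (c : T ⟶ Z), g ≫ act u v c = act (Matrix.GeneralLinearGroup.map g.left.appTop.hom u)
      (Matrix.GeneralLinearGroup.map g.left.appTop.hom v) (g ≫ c)
  act_one : ∀ {T : Over (B0 k)} (c : T ⟶ Z), act 1 1 c = c
  act_mul : ∀ {T : Over (B0 k)} (u u' : GL (Fin b) Γ(T.left, ⊤)) (v v' : GL (Fin a) Γ(T.left, ⊤)) (c : T ⟶ Z),
    act (u * u') (v * v') c = act u v (act u' v' c)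
  act_E : ∀ {T : Over (B0 k)} (u : GL (Fin b) Γ(T.left, ⊤)) (v : GL (Fin a) Γ(T.left, ⊤)) (c : T ⟶ Z),
    Nonempty (pl k X (act u v c) E ≅ pl k X c E)
  orb : ∀ {T : Over (B0 k)} (c c' : T ⟶ Z), Nonempty (pl k X c E ≅ pl k X c' E) →
    ∃ (u : GL (Fin b) Γ(T.left, ⊤)) (v : GL (Fin a) Γ(T.left, ⊤)), c' = act u v c
  ft : LocallyOfFiniteType Z.hom
  qc : QuasiCompact Z.hom
  sep : IsSeparated Z.hom
  aff : IsAffineHom π.left
  prop : IsProper M.hom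
  surj : Function.Surjective π.left
  /-- invariance of `π` -/
  act_π : ∀ {T : Over (B0 k)} (u : GL (Fin b) Γ(T.left, ⊤)) (v : GL (Fin a) Γ(T.left, ⊤)) (c : T ⟶ Z),
    act u v c ≫ π = c ≫ π
  /-- functions on `M` are the invariant functions on `Z` -/
  functions : ∀ V : M.left.Opens, IsAffineOpen V → Function.Injective (π.left.app V) ∧
    ∀ f : Γ(Z.left, π.left ⁻¹ᵁ V), (∀ (u : GL (Fin b) k) (v : GL (Fin a) k)
      (e : π.left ⁻¹ᵁ V ≤ (act (matT Z u) (matT Z v) (𝟙 Z)).left ⁻¹ᵁ (π.left ⁻¹ᵁ V)),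
      (act (matT Z u) (matT Z v) (𝟙 Z)).left.appLE (π.left ⁻¹ᵁ V) (π.left ⁻¹ᵁ V) e f = f) →
      ∃ h : Γ(M.left, V), π.left.app V h = f
  /-- Reynolds operators over an affine cover -/
  charts : ∀ m : M.left, ∃ V : M.left.Opens, m ∈ V ∧ IsAffineOpen V ∧
    IsReynolds π (fun γ => ∃ (u : GL (Fin b) k) (v : GL (Fin a) k), γ = act (matT Z u) (matT Z v) (𝟙 Z)) V
  /-- images of closed stable subsets are closed -/
  isClosed : ∀ W : Set Z.left, IsClosed W →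
    (∀ (u : GL (Fin b) k) (v : GL (Fin a) k), (act (matT Z u) (matT Z v) (𝟙 Z)).left '' W ⊆ W) →
    IsClosed (π.left '' W)
  /-- disjoint closed stable subsets have disjoint images -/
  disj : ∀ W W' : Set Z.left, IsClosed W → IsClosed W' → Disjoint W W' →
    (∀ (u : GL (Fin b) k) (v : GL (Fin a) k), (act (matT Z u) (matT Z v) (𝟙 Z)).left '' W ⊆ W) →
    (∀ (u : GL (Fin b) k) (v : GL (Fin a) k), (act (matT Z u) (matT Z v) (𝟙 Z)).left '' W' ⊆ W') →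
    Disjoint (π.left '' W) (π.left '' W')
  /-- `π` is a categorical quotient -/
  cat : ∀ (N : Over (B0 k)) (ψ : Z ⟶ N), (∀ (u : GL (Fin b) k) (v : GL (Fin a) k),
    act (matT Z u) (matT Z v) (𝟙 Z) ≫ ψ = ψ) → ∃! χ : M ⟶ N, π ≫ χ = ψ

end K140.BM
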