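import Groth.Prelude.Def_BunMod
import Groth.Prelude.Def_Fitting
import Groth.Agent.LoccohB.HHmap
import Groth.Agent.Dcoh.DerSch
import Mathlib.LinearAlgebra.Matrix.GeneralLinearGroup.Defs
import Mathlib.Algebra.MvPolynomial.Eval
import Mathlib.LinearAlgebra.TensorProduct.RightExactness

/-!
# BunMod team: shared definitions

`X` is a scheme over a field `k` (a curve), `B0 k = Spec k`, `st X = X ↘ Spec k`, families over `T : Over (B0 k)` are
modules on `PicF.XT (st X) T = X ×_k T`.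

* `Kr a b h B`: `B`-points of the space of Kronecker modules `k^a ⊗ k^h → k^b`; `kact u v α = u α v`.
* `KDat X`: two modules `L₁ = O(-n)`, `L₂ = O(-m)` and homomorphisms `s_i : L₂ ⟶ L₁` (a basis of `H⁰(O(m-n))`).
* `KE D T α`: the module `E_α` on `X_T` (cokernel of `L₂^(a h) → L₁^a ⊕ L₂^b`), `KE.v`, `KE.w` the tautological maps.
* `HomBasis`: a finite family of homomorphisms is a basis of `Hom(L, E)` over the base field.
* `KGood D r T α`: `E_α` is a family of semistable bundles of rank `r` and degree `0` and at every geometric point the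
  tautological maps are bases of `Hom(L₁, E)` and `Hom(L₂, E)`.
* `Atlas Q`: a family over `Z` from which all admissible families come Zariski locally, with a morphism `π : Z ⟶ M`
  through which invariant morphisms factor, universally (`uni`).
* `AtlasG Q`: the same with the action of `GL_b × GL_a`, invariants and Reynolds operators.
* `thetaIdeal`: `Fitt_0` of `R¹p_*(E ⊗ N)`.
-/

set_option autoImplicit false

universe u

open CategoryTheory CategoryTheory.Limits AlgebraicGeometry TensorProduct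

namespace K140.BM

open Groth.Agent.LoccohB.HHmap

/-- The base scheme. -/
noncomputable abbrev B0 (k : Type u) [Field k] : Scheme.{u} := Spec (CommRingCat.of k)

/-- `B`-points of the space of Kronecker modules `k^a ⊗ k^h → k^b`. -/
abbrev Kr (a b h : ℕ) (B : Type*) := Fin h → Matrix (Fin b) (Fin a) B

/-- The action of pairs of matrices. -/
def kact {B : Type*} [CommRing B] {a b h : ℕ} (u : Matrix (Fin b) (Fin b) B) (v : Matrix (Fin a) (Fin a) B)
    (α : Kr a b h B) : Kr a b h B := fun l => u * α l * v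

/-- King's condition, over a field `κ`: `b dim V' ≤ a dim (Σ_l α_l V')` for all `V' ≤ κ^a`. -/
def IsKing {κ : Type*} [Field κ] {a b h : ℕ} (α : Kr a b h κ) : Prop :=
  ∀ V' : Submodule κ (Fin a → κ), b * Module.finrank κ V' ≤
    a * Module.finrank κ (⨆ l, V'.map (α l).mulVecLin : Submodule κ (Fin b → κ))

/-- Base change of Kronecker modules. -/
def kmap {B C : Type*} [CommRing B] [CommRing C] {a b h : ℕ} (φ : B →+* C) (α : Kr a b h B) : Kr a b h C :=
  fun l => (α l).map φ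

/-- Finite direct sums of modules. -/
scoped instance hasFiniteBiproducts (X : Scheme.{u}) : HasFiniteBiproducts X.Modules :=
  Abelian.hasFiniteBiproducts

/-- Injective resolutions of modules. -/
scoped instance hasInjectiveResolutions (X : Scheme.{u}) : HasInjectiveResolutions X.Modules :=
  Groth.Agent.Dcoh.DerSch.hasInjectiveResolutions X

section Curve

variable {k : Type u} [Field k] (X : Scheme.{u}) [X.Over (Spec (CommRingCat.of k))]

/-- The structure morphism. -/
noncomputable abbrev st (k : Type u) [Field k] (X : Scheme.{u}) [X.Over (Spec (CommRingCat.of k))] : X ⟶ B0 k :=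
  X ↘ Spec (CommRingCat.of k)

/-- The inclusion of an open as a morphism over the base. -/
noncomputable abbrev opn (T : Over (B0 k)) (U : T.left.Opens) : Over (B0 k) := Over.mk (U.ι ≫ T.hom)

/-- The inclusion of an open as a morphism over the base. -/
noncomputable abbrev opi (T : Over (B0 k)) (U : T.left.Opens) : opn T U ⟶ T := Over.homMk U.ι rfl

/-- Pull-back of families. -/
noncomputable abbrev pl (k : Type u) [Field k] (X : Scheme.{u}) [X.Over (Spec (CommRingCat.of k))]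
    {T T' : Over (B0 k)} (g : T' ⟶ T) (E : (PicF.XT (st k X) T).Modules) : (PicF.XT (st k X) T').Modules :=
  (Scheme.Modules.pullback (PicF.XTmap (st k X) g)).obj E

/-- The constant family. -/
noncomputable abbrev cst (k : Type u) [Field k] {X : Scheme.{u}} [X.Over (Spec (CommRingCat.of k))]
    (T : Over (B0 k)) (L : X.Modules) : (PicF.XT (st k X) T).Modules :=
  (Scheme.Modules.pullback (pullback.fst (st k X) T.hom)).obj L

/-- Functions on the base as functions on `X_T`. -/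
noncomputable def fT (k : Type u) [Field k] (X : Scheme.{u}) [X.Over (Spec (CommRingCat.of k))] (T : Over (B0 k)) :
    Γ(T.left, ⊤) →+* Γ(PicF.XT (st k X) T, ⊤) :=
  (PicF.XTproj (st k X) T).appTop.hom

/-- Data for Kronecker modules on `X`: `L₁ = O(-n)`, `L₂ = O(-m)`, `s_i : L₂ ⟶ L₁`. -/
structure KDat (X : Scheme.{u}) where
  /-- `O(-n)` -/
  L₁ : X.Modules
  /-- `O(-m)` -/
  L₂ : X.Modules
  /-- `h⁰(O(m-n))` -/
  h : ℕ
  /-- the basis of `Hom(L₂, L₁)` -/
  s : Fin h → (L₂ ⟶ L₁)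

variable {X}

/-- The relations of `E_α`. -/
noncomputable def KE.rel (D : KDat X) {a b : ℕ} (T : Over (B0 k)) (α : Kr a b D.h Γ(T.left, ⊤)) :
    (⨁ fun _ : Fin a × Fin D.h => cst k T D.L₂) ⟶
      (⨁ fun _ : Fin a => cst k T D.L₁) ⊞ (⨁ fun _ : Fin b => cst k T D.L₂) :=
  biproduct.desc fun p => biprod.lift
    ((Scheme.Modules.pullback (pullback.fst (st k X) T.hom)).map (D.s p.2) ≫
      biproduct.ι (fun _ : Fin a => cst k T D.L₁) p.1)
    (- ∑ j : Fin b, smulHom _ (fT k X T (α p.2 j p.1)) ≫ biproduct.ι (fun _ : Fin b => cst k T D.L₂) j)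

/-- The module `E_α` on `X_T`. -/
noncomputable def KE (D : KDat X) {a b : ℕ} (T : Over (B0 k)) (α : Kr a b D.h Γ(T.left, ⊤)) :
    (PicF.XT (st k X) T).Modules := cokernel (KE.rel D T α)

/-- The tautological homomorphisms `L₁ ⟶ E_α`. -/
noncomputable def KE.v (D : KDat X) {a b : ℕ} (T : Over (B0 k)) (α : Kr a b D.h Γ(T.left, ⊤)) (l : Fin a) :
    cst k T D.L₁ ⟶ KE D T α :=
  biproduct.ι (fun _ : Fin a => cst k T D.L₁) l ≫ biprod.inl ≫ cokernel.π (KE.rel D T α)

/-- The tautological homomorphisms `L₂ ⟶ E_α`. -/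
noncomputable def KE.w (D : KDat X) {a b : ℕ} (T : Over (B0 k)) (α : Kr a b D.h Γ(T.left, ⊤)) (j : Fin b) :
    cst k T D.L₂ ⟶ KE D T α :=
  biproduct.ι (fun _ : Fin b => cst k T D.L₂) j ≫ biprod.inr ≫ cokernel.π (KE.rel D T α)

/-- A finite family of homomorphisms `L ⟶ E` on a scheme over the field `κ` is a basis of `Hom(L, E)` over `κ`. -/
def HomBasis {κ : Type u} [Field κ] {Y : Scheme.{u}} (q : Y ⟶ Spec (CommRingCat.of κ)) {n : ℕ} {L E : Y.Modules}
    (e : Fin n → (L ⟶ E)) : Prop :=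
  ∀ x : L ⟶ E, ∃! c : Fin n → κ,
    x = ∑ i, smulHom L (q.appTop ((Scheme.ΓSpecIso (CommRingCat.of κ)).inv (c i))) ≫ e i

/-- `α` is good: `E_α` is a family of semistable bundles of rank `r` and degree `0`, and at every geometric point the
tautological maps are bases of `Hom(L₁, E)` and `Hom(L₂, E)`. -/
def KGood (D : KDat X) (r : ℕ) {a b : ℕ} (T : Over (B0 k)) (α : Kr a b D.h Γ(T.left, ⊤)) : Prop :=
  BunMod.ussOK (st k X) r 0 T (KE D T α) ∧
    ∀ (Ω : Type u) [Field Ω] [IsAlgClosed Ω] (t : Spec (CommRingCat.of Ω) ⟶ T.left),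
      HomBasis (PicF.XTproj (st k X) (Over.mk (t ≫ T.hom)))
        (fun l : Fin a => (Scheme.Modules.pullback (PicF.XTmap (st k X)
          (Over.homMk t rfl : Over.mk (t ≫ T.hom) ⟶ T))).map (KE.v D T α l)) ∧
      HomBasis (PicF.XTproj (st k X) (Over.mk (t ≫ T.hom)))
        (fun j : Fin b => (Scheme.Modules.pullback (PicF.XTmap (st k X)
          (Over.homMk t rfl : Over.mk (t ≫ T.hom) ⟶ T))).map (KE.w D T α j))

variable (X)

/-- An atlas of the problem cut out by `Q`: an admissible family `E` over `Z` from which every admissible family comes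
Zariski locally, and a morphism `π : Z ⟶ M` through which invariant morphisms factor, after every base change. -/
structure Atlas (k : Type u) [Field k] (X : Scheme.{u}) [X.Over (Spec (CommRingCat.of k))]
    (Q : ∀ T : Over (B0 k), (ModFun.modProb (st k X)).Fam T → Prop) where
  /-- the scheme of frames -/
  Z : Over (B0 k)
  /-- the quotient -/
  M : Over (B0 k)
  /-- the family -/
  E : (PicF.XT (st k X) Z).Modules
  /-- the quotient morphism -/
  π : Z ⟶ M
  ok : Q Z E
  lift : ∀ (T : Over (B0 k)) (F : (PicF.XT (st k X) T).Modules), Q T F → ∀ t : T.left,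
    ∃ (U : T.left.Opens) (c : opn T U ⟶ Z), t ∈ U ∧ Nonempty (pl k X c E ≅ pl k X (opi T U) F)
  inv : ∀ (T : Over (B0 k)) (c c' : T ⟶ Z), Nonempty (pl k X c E ≅ pl k X c' E) → c ≫ π = c' ≫ π
  uni : ∀ (Y : Over (B0 k)) (y : Y ⟶ M) (N : Over (B0 k)) (ψ : pullback π y ⟶ N),
    (∀ (T : Over (B0 k)) (x x' : T ⟶ pullback π y), x ≫ pullback.snd π y = x' ≫ pullback.snd π y →
      Nonempty (pl k X (x ≫ pullback.fst π y) E ≅ pl k X (x' ≫ pullback.fst π y) E) → x ≫ ψ = x' ≫ ψ) →
    ∃! q : Y ⟶ N, pullback.snd π y ≫ q = ψ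

/-- Matrices over `k` as matrices of functions on `T`. -/
noncomputable def matT {k : Type u} [Field k] (T : Over (B0 k)) {n : ℕ} (u : GL (Fin n) k) :
    GL (Fin n) Γ(T.left, ⊤) :=
  Matrix.GeneralLinearGroup.map
    ((T.hom.appTop.hom).comp (Scheme.ΓSpecIso (CommRingCat.of k)).inv.hom) u

/-- An atlas of the problem cut out by `Q` with the action of `GL_b × GL_a` (functor of points), orbits, invariants and
Reynolds operators. -/
structure AtlasG (k : Type u) [Field k] (X : Scheme.{u}) [X.Over (Spec (CommRingCat.of k))]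
    (Q : ∀ T : Over (B0 k), (ModFun.modProb (st k X)).Fam T → Prop) where
  /-- the scheme of frames -/
  Z : Over (B0 k)
  /-- the quotient -/
  M : Over (B0 k)
  /-- the family -/
  E : (PicF.XT (st k X) Z).Modules
  /-- the quotient morphism -/
  π : Z ⟶ M
  ok : Q Z E
  lift : ∀ (T : Over (B0 k)) (F : (PicF.XT (st k X) T).Modules), Q T F → ∀ t : T.left,
    ∃ (U : T.left.Opens) (c : opn T U ⟶ Z), t ∈ U ∧ Nonempty (pl k X c E ≅ pl k X (opi T U) F)
  a : ℕ
  b : ℕ
  /-- the action on `T`-points -/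
  act : ∀ {T : Over (B0 k)}, GL (Fin b) Γ(T.left, ⊤) → GL (Fin a) Γ(T.left, ⊤) → (T ⟶ Z) → (T ⟶ Z)
  act_nat : ∀ {T T' : Over (B0 k)} (g : T' ⟶ T) (u : GL (Fin b) Γ(T.left, ⊤)) (v : GL (Fin a) Γ(T.left, ⊤))
    (c : T ⟶ Z), g ≫ act u v c = act (Matrix.GeneralLinearGroup.map g.left.appTop.hom u)
      (Matrix.GeneralLinearGroup.map g.left.appTop.hom v) (g ≫ c)
  act_one : ∀ {T : Over (B0 k)} (c : T ⟶ Z), act 1 1 c = c
  act_mul : ∀ {T : Over (B0 k)} (u u' : GL (Fin b) Γ(T.left, ⊤)) (v v' : GL (Fin a) Γ(T.left, ⊤)) (c : T ⟶ Z),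
    act (u * u') (v * v') c = act u v (act u' v' c)
  act_E : ∀ {T : Over (B0 k)} (u : GL (Fin b) Γ(T.left, ⊤)) (v : GL (Fin a) Γ(T.left, ⊤)) (c : T ⟶ Z),
    Nonempty (pl k X (act u v c) E ≅ pl k X c E)
  orb : ∀ {T : Over (B0 k)} (c c' : T ⟶ Z), Nonempty (pl k X c E ≅ pl k X c' E) →
    ∃ (u : GL (Fin b) Γ(T.left, ⊤)) (v : GL (Fin a) Γ(T.left, ⊤)), c' = act u v c
  ft : LocallyOfFiniteType Z.hom
  qc : QuasiCompact Z.hom
  sep : IsSeparated Z.hom
  aff : IsAffineHom π.left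
  prop : IsProper M.hom
  surj : Function.Surjective π.left
  /-- invariance of `π` -/
  act_π : ∀ {T : Over (B0 k)} (u : GL (Fin b) Γ(T.left, ⊤)) (v : GL (Fin a) Γ(T.left, ⊤)) (c : T ⟶ Z),
    act u v c ≫ π = c ≫ π
  /-- functions on `M` are the invariant functions on `Z` -/
  functions : ∀ V : M.left.Opens, IsAffineOpen V → Function.Injective (π.left.app V) ∧
    ∀ f : Γ(Z.left, π.left ⁻¹ᵁ V), (∀ (u : GL (Fin b) k) (v : GL (Fin a) k)
      (e : π.left ⁻¹ᵁ V ≤ (act (matT Z u) (matT Z v) (𝟙 Z)).left ⁻¹ᵁ (π.left ⁻¹ᵁ V)),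
      (act (matT Z u) (matT Z v) (𝟙 Z)).left.appLE (π.left ⁻¹ᵁ V) (π.left ⁻¹ᵁ V) e f = f) →
      ∃ h : Γ(M.left, V), π.left.app V h = f
  /-- Reynolds operators: additive, linear over the invariants, the identity on them, and preserving every
  stable subgroup, with coefficients in any `k`-algebra `Λ` -/
  reynolds : ∀ V : M.left.Opens, IsAffineOpen V →
    letI := ((Z.hom.appLE ⊤ (π.left ⁻¹ᵁ V) le_top).hom.comp (Scheme.ΓSpecIso (CommRingCat.of k)).inv.hom).toAlgebra
    ∃ ρ : Γ(Z.left, π.left ⁻¹ᵁ V) →ₗ[k] Γ(Z.left, π.left ⁻¹ᵁ V),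
      (∀ f, ∃ h : Γ(M.left, V), π.left.app V h = ρ f) ∧
      (∀ h : Γ(M.left, V), ρ (π.left.app V h) = π.left.app V h) ∧
      (∀ (h : Γ(M.left, V)) (f : Γ(Z.left, π.left ⁻¹ᵁ V)), ρ (π.left.app V h * f) = π.left.app V h * ρ f) ∧
      ∀ (Λ : Type u) [CommRing Λ] [Algebra k Λ] (J : AddSubgroup (Λ ⊗[k] Γ(Z.left, π.left ⁻¹ᵁ V))),
        (∀ (u : GL (Fin b) k) (v : GL (Fin a) k) (τ : Γ(Z.left, π.left ⁻¹ᵁ V) →ₗ[k] Γ(Z.left, π.left ⁻¹ᵁ V))
          (e : π.left ⁻¹ᵁ V ≤ (act (matT Z u) (matT Z v) (𝟙 Z)).left ⁻¹ᵁ (π.left ⁻¹ᵁ V)),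
          (∀ f, τ f = (act (matT Z u) (matT Z v) (𝟙 Z)).left.appLE (π.left ⁻¹ᵁ V) (π.left ⁻¹ᵁ V) e f) →
          ∀ x ∈ J, τ.lTensor Λ x ∈ J) →
        (∀ c : k, ∀ x ∈ J, c • x ∈ J) → ∀ x ∈ J, ρ.lTensor Λ x ∈ J

/-- The theta ideal of a family: `Fitt_0 (R¹p_*(E ⊗ N))`. -/
noncomputable def thetaIdeal (k : Type u) [Field k] {X : Scheme.{u}} [X.Over (Spec (CommRingCat.of k))]
    (N : X.Modules) (T : Over (B0 k)) (E : (PicF.XT (st k X) T).Modules) : T.left.IdealSheafData :=
  Fitt.sheafIdeal ((Coh.Rpush (PicF.XTproj (st k X) T) 1).obj (CohB1.tensorMod E (cst k T N))) 0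

end Curve

end K140.BM
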