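import Groth.Agent.BunMod.K140.Atlas
import Groth.Agent.BunMod.K892.HasLift
import Groth.Agent.BunMod.K562.LiftPt
import Groth.Agent.BunMod.K977.Adm

/-!
# BunMod team: atlases with the lifting property, smooth
-/

set_option autoImplicit false

universe u

open CategoryTheory CategoryTheory.Limits AlgebraicGeometry TensorProduct

namespace K140.BM

variable {k : Type u} [Field k] [IsAlgClosed k] [CharZero k] {X : Scheme.{u}} [X.Over (Spec (CommRingCat.of k))]
  [IsProper (X ↘ Spec (CommRingCat.of k))] [Smooth (X ↘ Spec (CommRingCat.of k))]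

/-- The atlas of a subproblem represented by a closed subscheme, with the same frames and family. -/
theorem SubRep.exists_atlas_with {S : KSet X} {r a b : ℕ} (hS : KFit k S r a b)
    {K : KRep (k := k) S.toKDat r a b}
    {Q : ∀ T : Over (B0 k), (ModFun.modProb (st k X)).Fam T → Prop} (R : SubRep K Q) (hQ : SubProb k X r Q)
    (P : ∀ Z : Over (B0 k), (PicF.XT (st k X) Z).Modules → Prop) (h : P R.Z R.E) :
    ∃ A : AtlasC k X Q, P A.Z A.E := by
  obtain ⟨m, e, f, ρ, p⟩ := K496.KrKing.exists_pack k a b S.h hS.pos_a hS.pos_b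
  obtain ⟨M, c, π, h1, h2, h3, h4, -⟩ := K739.KrQuot.exists_quot_GQ p (𝟙 (B0 k)) R.j
    (R.range_le hS (kfacts hS) p) (R.exists_closed hS (kfacts hS) p) (R.isStable (kfacts hS) hQ)
  have q := K739.KrQuot.isQuot_of_GQ h1 h2 h3 h4
  exact ⟨R.atlas (kfacts hS) hQ q (K739.Charts.hasCharts R (kfacts hS) hQ q h4), h⟩

variable [GeometricallyConnected (X ↘ Spec (CommRingCat.of k))]

/-- **A smooth atlas with the lifting property**, rank `r` and degree `0`. -/
theorem exists_atlasC_lift (hdim : topologicalKrullDim X = 1) {r : ℕ} (hr : 1 ≤ r) :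
    ∃ A : AtlasC k X (BunMod.ussOK (st k X) r 0),
      K562.LiftPt.HasLift (BunMod.ussOK (st k X) r 0) A.Z A.E ∧ Smooth A.Z.hom := by
  obtain ⟨S, a, b, hS⟩ := K656.Main.exists_kfit (k := k) (X := X) hdim r hr
  obtain ⟨K⟩ := K311.Rep.exists_krep hdim hr hS
  obtain ⟨A, hA⟩ := (subAll K).exists_atlas_with hS (subProb_all r)
    (fun Z E => K562.LiftPt.HasLift (BunMod.ussOK (st k X) r 0) Z E) (K892.HasLift.main_all hS K)
  exact ⟨A, hA, K977.Adm.smooth_atlas k X hdim A⟩

/-- **A smooth atlas with the lifting property**, rank `r` and determinant `L`. -/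
theorem exists_atlasC_det_lift (hdim : topologicalKrullDim X = 1) {r : ℕ} (hr : 1 ≤ r) {L : X.Modules}
    (hL : PicF.IsInvertible L) (hLd : Curv2.deg k X L 1 = 0) :
    ∃ A : AtlasC k X (BunMod.ussDetOK (st k X) r L),
      K562.LiftPt.HasLift (BunMod.ussDetOK (st k X) r L) A.Z A.E ∧ Smooth A.Z.hom := by
  obtain ⟨S, a, b, hS⟩ := K656.Main.exists_kfit (k := k) (X := X) hdim r hr
  obtain ⟨K⟩ := K311.Rep.exists_krep hdim hr hS
  obtain ⟨R⟩ := K757.SubDet.exists_subRep (r := r) hdim hL hLd K (kfacts hS)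
  have hQ := K757.SubDet.subProb (r := r) hdim hL hLd
  obtain ⟨A, hA⟩ := R.exists_atlas_with hS hQ
    (fun Z E => K562.LiftPt.HasLift (BunMod.ussDetOK (st k X) r L) Z E) (K892.HasLift.main hS R hQ)
  exact ⟨A, hA, K977.Adm.smooth_atlas_det k X hdim hr L hL A⟩

end K140.BM
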