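import Groth.Agent.BunMod.K140.DvrPt
import Groth.Agent.Fdesc.QuasiCompactTop
import Mathlib.AlgebraicGeometry.AlgClosed.Basic
import Mathlib.AlgebraicGeometry.Morphisms.Immersion
import Mathlib.AlgebraicGeometry.Noetherian

/-!
# Discrete valuation rings through a rational point in the closure of an immersion
-/

set_option autoImplicit false

universe u

open CategoryTheory CategoryTheory.Limits AlgebraicGeometry IsLocalRing

namespace K140.DvrImm

/-- A morphism from a reduced scheme lifts along an immersion if it does set-theoretically. -/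
theorem exists_lift_immersion {W S T : Scheme.{u}} (g : W ⟶ S) [IsImmersion g] [IsReduced T] (t : T ⟶ S)
    (h : Set.range t ⊆ Set.range g) : ∃ t' : T ⟶ W, t' ≫ g = t := by
  have h1 : Function.Surjective (pullback.fst t g) := by
    intro x
    obtain ⟨w, hw⟩ := h ⟨x, rfl⟩
    obtain ⟨z, hz, -⟩ := Scheme.Pullback.exists_preimage_pullback (f := t) (g := g) x w hw.symm
    exact ⟨z, hz⟩
  have h2 : Surjective (pullback.fst t g) := ⟨h1⟩
  have h3 : IsClosedImmersion (pullback.fst t g) :=
    .of_isPreimmersion _ (by rw [h1.range_eq]; exact isClosed_univ)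
  have h4 : IsIso (pullback.fst t g) := isIso_of_isClosedImmersion_of_surjective _
  refine ⟨inv (pullback.fst t g) ≫ pullback.snd t g, ?_⟩
  rw [Category.assoc, ← pullback.condition, IsIso.inv_hom_id_assoc]

variable {k : Type u} [Field k] [IsAlgClosed k]

/-- A rational point `x` of the affine scheme `Spec A` over `k`, in the closure of an immersion and not on it, is
reached by a discrete valuation ring with residue field `k` whose generic point lies on the immersion. -/
theorem exists_dvr_spec {A : Type u} [CommRing A] [Algebra k A] [IsNoetherianRing A] {Z : Scheme.{u}}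
    (j : Z ⟶ Spec (CommRingCat.of A)) [IsImmersion j] (ε : A →ₐ[k] k) (x : Spec (CommRingCat.of A))
    (hx : x.asIdeal = RingHom.ker ε) (hx₁ : x ∈ closure (Set.range j)) (hx₂ : x ∉ Set.range j) :
    ∃ (V : Type u) (_ : CommRing V) (_ : IsDomain V) (_ : IsDiscreteValuationRing V) (_ : Algebra k V)
      (ψ : A →ₐ[k] V) (g' : Spec (CommRingCat.of (FractionRing V)) ⟶ Z),
      Function.Bijective (algebraMap k (ResidueField V)) ∧
      g' ≫ j = Spec.map (CommRingCat.ofHom (algebraMap V (FractionRing V))) ≫
        Spec.map (CommRingCat.ofHom ψ.toRingHom) ∧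
      ∀ f, residue V (ψ f) = algebraMap k (ResidueField V) (ε f) := by
  have hN : IsNoetherian (Spec (CommRingCat.of A)) := {}
  have : TopologicalSpace.NoetherianSpace Z := (Scheme.Hom.isEmbedding j).isInducing.noetherianSpace
  have hq : QuasiCompact j := inferInstance
  obtain ⟨z, hz⟩ := Groth.Agent.Fdesc.QuasiCompactTop.exists_specializes_of_mem_closure_range j x hx₁
  have hxz : j z ≠ x := fun h => hx₂ ⟨z, h⟩
  have hU : j z ∈ j.coborderRange := subset_coborder ⟨z, rfl⟩
  obtain ⟨_, ⟨a, rfl⟩, ha, haz⟩ := PrimeSpectrum.isTopologicalBasis_basic_opens.exists_subset_of_mem_open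
    (a := j z) (u := coborder (Set.range j)) hU j.coborderRange.isOpen
  have ha' : a ∉ (j z).asIdeal := ha
  have hP : (j z).asIdeal ≤ RingHom.ker ε := by
    rw [← hx]
    exact (PrimeSpectrum.le_iff_specializes _ _).mpr hz
  have hne : (j z).asIdeal ≠ RingHom.ker ε := by
    rw [← hx]
    exact fun h => hxz (PrimeSpectrum.ext h)
  obtain ⟨V, _, _, _, _, ψ, h1, h2, h3, h4⟩ := K140.DvrPt.exists_dvr ε (j z).asIdeal hP hne a ha'
  let t : Spec (CommRingCat.of (FractionRing V)) ⟶ Spec (CommRingCat.of A) :=
    Spec.map (CommRingCat.ofHom (algebraMap V (FractionRing V))) ≫ Spec.map (CommRingCat.ofHom ψ.toRingHom)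
  have ht : Set.range t ⊆ Set.range j := by
    rintro _ ⟨s, rfl⟩
    have hs : (t s).asIdeal = RingHom.ker ψ := by
      have hs0 : s.asIdeal = ⊥ := (Ideal.eq_bot_or_top s.asIdeal).resolve_right s.2.ne_top
      change (s.asIdeal.comap (algebraMap V (FractionRing V))).comap ψ.toRingHom = _
      rw [hs0, Ideal.comap_bot_of_injective _ (IsFractionRing.injective V (FractionRing V))]
      rfl
    rw [← closure_inter_coborder (s := Set.range j)]
    refine ⟨?_, haz ?_⟩
    · have h5 : (j z) ⤳ (t s) := by
        refine (PrimeSpectrum.le_iff_specializes _ _).mp ?_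
        change (j z).asIdeal ≤ (t s).asIdeal
        rw [hs]
        exact h1
      exact h5.mem_closed isClosed_closure (subset_closure ⟨z, rfl⟩)
    · change a ∉ (t s).asIdeal
      rw [hs]
      exact h2
  obtain ⟨g', hg'⟩ := exists_lift_immersion j t ht
  exact ⟨V, inferInstance, inferInstance, inferInstance, inferInstance, ψ, g', h4, hg', h3⟩

end K140.DvrImm
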