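import Groth.Agent.BunMod.K140.Asm2
import Groth.Agent.BunMod.K140.DvrImm
import Mathlib.LinearAlgebra.Dimension.Basic

/-!
# BunMod team, part B: the scheme of good Kronecker modules is closed in the semistable locus
-/

set_option autoImplicit false

universe u

open CategoryTheory CategoryTheory.Limits AlgebraicGeometry TensorProduct

namespace K140.BM

open K585.KronK (AS prS crd sOf pt actS fn ssOpen Pack IsAct IsStable Rel IsQuot)

section Coords

variable {k : Type u} [Field k] {a b h : ℕ}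

/-- The coordinates of an affine point, in `R`. -/
noncomputable def kco {R : Type u} [CommRing R] (g : Spec (CommRingCat.of R) ⟶ 𝔸(KIdx.{u} a b h; B0 k)) :
    Kr a b h R := kmap (Scheme.ΓSpecIso (CommRingCat.of R)).hom.hom (kcrd k g)

theorem kcrd_eq_kco {R : Type u} [CommRing R] (g : Spec (CommRingCat.of R) ⟶ 𝔸(KIdx.{u} a b h; B0 k)) :
    kcrd k g = kmap (kOf R) (kco g) := by
  rw [kco, kmap_kmap]
  funext i
  ext j l
  simp [kmap, kOf]

theorem kco_comp {R R' : Type u} [CommRing R] [CommRing R'] (φ : R →+* R')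
    (g : Spec (CommRingCat.of R) ⟶ 𝔸(KIdx.{u} a b h; B0 k)) :
    kco (Spec.map (CommRingCat.ofHom φ) ≫ g) = kmap φ (kco g) := by
  rw [kco, kcrd_comp, kmap_kmap, kco, kmap_kmap]
  congr 1
  have := Scheme.ΓSpecIso_naturality (CommRingCat.ofHom φ)
  exact congrArg CommRingCat.Hom.hom this

theorem kcrd_comp_spec {R R' : Type u} [CommRing R] [CommRing R'] (φ : R →+* R')
    (g : Spec (CommRingCat.of R) ⟶ 𝔸(KIdx.{u} a b h; B0 k)) :
    kcrd k (Spec.map (CommRingCat.ofHom φ) ≫ g) = kmap ((kOf R').comp φ) (kco g) := by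
  rw [kcrd_eq_kco, kco_comp, kmap_kmap]

/-- The inverse image of a subspace under an isomorphism of fields. -/
def cm {κ κ' : Type u} [Field κ] [Field κ'] (e : κ →+* κ') {n : ℕ} (U : Submodule κ' (Fin n → κ')) :
    Submodule κ (Fin n → κ) where
  carrier := {x | (fun i => e (x i)) ∈ U}
  add_mem' {x y} hx hy := by
    have h : (fun i => e ((x + y) i)) = (fun i => e (x i)) + fun i => e (y i) := by
      funext i
      simp
    change (fun i => e ((x + y) i)) ∈ U
    rw [h]
    exact U.add_mem hx hy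
  zero_mem' := by
    have h : (fun i => e ((0 : Fin n → κ) i)) = 0 := by
      funext i
      simp
    change (fun i => e ((0 : Fin n → κ) i)) ∈ U
    rw [h]
    exact U.zero_mem
  smul_mem' c x hx := by
    have h : (fun i => e ((c • x) i)) = e c • fun i => e (x i) := by
      funext i
      simp
    change (fun i => e ((c • x) i)) ∈ U
    rw [h]
    exact U.smul_mem _ hx

theorem finrank_cm {κ κ' : Type u} [Field κ] [Field κ'] (e : κ →+* κ') (he : Function.Bijective e) {n : ℕ}
    (U : Submodule κ' (Fin n → κ')) : Module.finrank κ (cm e U) = Module.finrank κ' U := by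
  let E : κ ≃+* κ' := RingEquiv.ofBijective e he
  let j : cm e U ≃+ U :=
    { toFun := fun x => ⟨fun i => e (x.1 i), x.2⟩
      invFun := fun x => ⟨fun i => E.symm (x.1 i), by
        change (fun i => e (E.symm (x.1 i))) ∈ U
        have : (fun i => e (E.symm (x.1 i))) = x.1 := by
          funext i
          exact E.apply_symm_apply _
        rw [this]
        exact x.2⟩
      left_inv := fun x => by
        ext i
        exact E.symm_apply_apply _
      right_inv := fun x => by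
        ext i
        exact E.apply_symm_apply _
      map_add' := fun x y => by
        ext i
        simp }
  have := rank_eq_of_equiv_equiv (R := κ) (R' := κ') (M := cm e U) (M₁ := U) e j he (fun r x => by
    ext i
    simp [j])
  rw [Module.finrank, Module.finrank, this]

/-- King's condition is invariant under isomorphisms of fields. -/
theorem IsKing.map {κ κ' : Type u} [Field κ] [Field κ'] (e : κ →+* κ') (he : Function.Bijective e)
    {β : Kr a b h κ} (hβ : IsKing β) : IsKing (kmap e β) := by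
  intro V'
  have h1 := hβ (cm e V')
  rw [finrank_cm e he] at h1
  refine h1.trans (Nat.mul_le_mul_left a ?_)
  rw [← finrank_cm e he]
  apply Submodule.finrank_mono
  refine iSup_le fun l => ?_
  rintro _ ⟨x, hx, rfl⟩
  change (fun i => e (((β l).mulVecLin x) i)) ∈
    (⨆ l, V'.map (kmap e β l).mulVecLin : Submodule κ' (Fin b → κ'))
  have h2 : (fun i => e (((β l).mulVecLin x) i)) = (kmap e β l).mulVecLin (fun i => e (x i)) := by
    funext i
    simp [kmap, Matrix.mulVec, dotProduct]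
  rw [h2]
  exact Submodule.mem_iSup_of_mem l ⟨_, hx, rfl⟩

theorem map_evr {B C : Type*} [CommRing B] [CommRing C] (φ : B →+* C) (c : k →+* B) (α : Kr a b h B)
    (p : K585.KronK.Poly k a b h) : φ (K585.KronK.evr c α p) = K585.KronK.evr (φ.comp c) (kmap φ α) p := by
  rw [K585.KronK.evr, K585.KronK.evr, MvPolynomial.coe_eval₂Hom, MvPolynomial.coe_eval₂Hom,
    MvPolynomial.hom_eval₂]
  rfl

theorem mem_ssOpen [IsAlgClosed k] [CharZero k] {m e : ℕ} {f : Fin (m + 1) → K585.KronK.Poly k a b h}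
    {ρ : K585.KronK.Poly k a b h →ₗ[k] K585.KronK.Poly k a b h} (P : Pack a b h m e f ρ)
    (c : B0 k ⟶ 𝔸(KIdx.{u} a b h; B0 k)) (hc : c ≫ (𝔸(KIdx.{u} a b h; B0 k) ↘ B0 k) = 𝟙 _) (x : B0 k) :
    c x ∈ ssOpen (𝟙 (B0 k)) f ↔ IsKing (kco c) := by
  have h1 : IsKing (kco c) ↔ ∃ i, K585.KronK.evr (RingHom.id k) (kco c) (f i) ≠ 0 := (P.king (kco c)).symm
  rw [h1]
  change c x ∈ (⨆ i, (AS a b h (B0 k)).basicOpen (fn (𝟙 (B0 k)) (f i)) : (AS a b h (B0 k)).Opens) ↔ _
  rw [TopologicalSpace.Opens.mem_iSup]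
  refine exists_congr fun i => ?_
  have h2 : c.appTop (fn (𝟙 (B0 k)) (f i)) = K585.KronK.evr (sOf (𝟙 (B0 k))) (kcrd k c) (f i) := by
    rw [fn]
    change c.appTop.hom _ = _
    rw [map_evr, ← sOf_comp, Category.comp_id, crd_eq_kcrd, ← kcrd_comp, Category.comp_id]
    erw [hc]
  have h3 : (Scheme.ΓSpecIso (CommRingCat.of k)).hom (c.appTop (fn (𝟙 (B0 k)) (f i))) =
      K585.KronK.evr (RingHom.id k) (kco c) (f i) := by
    rw [h2]
    change (Scheme.ΓSpecIso (CommRingCat.of k)).hom.hom _ = _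
    rw [map_evr]
    congr 1
    have h4 : (Scheme.ΓSpecIso (CommRingCat.of k)).hom.hom.comp (sOf (𝟙 (B0 k))) = RingHom.id k := by
      ext y
      simp [sOf]
    rw [h4]
    rfl
  rw [← h3]
  have h5 : c x ∈ (AS a b h (B0 k)).basicOpen (fn (𝟙 (B0 k)) (f i)) ↔
      x ∈ (B0 k).basicOpen (c.appTop (fn (𝟙 (B0 k)) (f i))) := by
    rw [← Scheme.preimage_basicOpen_top]
    rfl
  rw [h5, basicOpen_eq_of_affine']
  change _ ∉ x.asIdeal ↔ _
  have h6 : x.asIdeal = ⊥ := (Ideal.eq_bot_or_top x.asIdeal).resolve_right x.2.ne_top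
  rw [h6, Ideal.mem_bot]

end Coords

section Curve

variable {k : Type u} [Field k] [IsAlgClosed k] [CharZero k] {X : Scheme.{u}} [X.Over (Spec (CommRingCat.of k))]
  {S : KSet X} {r a b : ℕ} (hS : KFit k S r a b) (hF : KFacts (k := k) S r a b) (K : KRep (k := k) S.toKDat r a b)
  {m e : ℕ} {f : Fin (m + 1) → K585.KronK.Poly k a b S.h}
  {ρ : K585.KronK.Poly k a b S.h →ₗ[k] K585.KronK.Poly k a b S.h} (P : Pack a b S.h m e f ρ)

include hF in
theorem good_of_hom {T : Over (B0 k)} (c : T ⟶ K.Z) : KGood S.toKDat r T (kcrd k (c.left ≫ K.j)) := by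
  rw [kcrd_comp]
  exact hF.good_pull _ _ K.good

include hS hF in
theorem king_pt (c : B0 k ⟶ K.Z.left) (hc : c ≫ K.Z.hom = 𝟙 _) : IsKing (kco (c ≫ K.j)) := by
  refine hS.king k (𝟙 _) _ ?_
  rw [← kcrd_eq_kco]
  exact good_of_hom hF K (Over.homMk c hc : tpt (𝟙 (B0 k)) ⟶ K.Z)

include hS hF P in
theorem range_le : Set.range K.j ⊆ ssOpen (𝟙 (B0 k)) f := by
  have himm := K.imm
  have hft : LocallyOfFiniteType K.Z.hom := by
    rw [← K.w]
    infer_instance
  have hJ : JacobsonSpace K.Z.left := LocallyOfFiniteType.jacobsonSpace K.Z.hom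
  by_contra hcon
  obtain ⟨_, ⟨z, rfl⟩, hz⟩ := Set.not_subset.mp hcon
  let C : Set K.Z.left := (K.j ⁻¹ᵁ ssOpen (𝟙 (B0 k)) f : Set K.Z.left)ᶜ
  have hC : IsClosed C := (K.j ⁻¹ᵁ ssOpen (𝟙 (B0 k)) f).isOpen.isClosed_compl
  obtain ⟨x, hx, hx'⟩ := nonempty_inter_closedPoints (Z := C) ⟨z, hz⟩ hC.isLocallyClosed
  let c := pointOfClosedPoint K.Z.hom x hx'
  have hc : c ≫ K.Z.hom = 𝟙 _ := pointOfClosedPoint_comp _ _ _
  have h1 := king_pt hS hF K c hc
  have h2 := (mem_ssOpen P (c ≫ K.j) (by rw [Category.assoc, K.w, hc]) (IsLocalRing.closedPoint k)).mpr h1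
  apply hx
  rw [Scheme.Hom.comp_apply, pointOfClosedPoint_apply] at h2
  exact h2

include hS hF P in
theorem range_eq : Set.range K.j = closure (Set.range K.j) ∩ ssOpen (𝟙 (B0 k)) f := by
  have himm := K.imm
  refine subset_antisymm (Set.subset_inter subset_closure (range_le hS hF K P)) ?_
  by_contra hcon
  obtain ⟨y, hy, hy'⟩ := Set.not_subset.mp hcon
  let Y := 𝔸(KIdx.{u} a b S.h; B0 k)
  have hJ : JacobsonSpace Y := LocallyOfFiniteType.jacobsonSpace (Y ↘ B0 k)
  let C : Set Y := (coborder (Set.range K.j))ᶜ ∩ ssOpen (𝟙 (B0 k)) f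
  have hC : IsLocallyClosed C :=
    (K.j.coborderRange.isOpen.isClosed_compl.isLocallyClosed).inter (ssOpen (𝟙 (B0 k)) f).isOpen.isLocallyClosed
  have hyC : y ∈ C := by
    refine ⟨fun h => hy' ?_, hy.2⟩
    rw [← closure_inter_coborder (s := Set.range K.j)]
    exact ⟨hy.1, h⟩
  obtain ⟨x, hx, hx'⟩ := nonempty_inter_closedPoints ⟨y, hyC⟩ hC
  have hx₁ : x ∈ closure (Set.range K.j) := by
    by_contra h
    apply hx.1
    rw [coborder_eq_union_closure_compl]
    exact Or.inr h
  have hx₂ : x ∉ Set.range K.j := fun h => hx.1 (subset_coborder h)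
  let c := pointOfClosedPoint (Y ↘ B0 k) x hx'
  have hc : c ≫ (Y ↘ B0 k) = 𝟙 _ := pointOfClosedPoint_comp _ _ _
  have hcx : ∀ p, c p = x := fun p => pointOfClosedPoint_apply _ _ _ p
  have hking : IsKing (kco c) := by
    refine (mem_ssOpen P c hc (IsLocalRing.closedPoint k)).mp ?_
    rw [hcx]
    exact hx.2
  -- the affine algebra
  let A : Type u := Γ(Y, ⊤)
  letI algA : Algebra k A := ((Y ↘ B0 k).appTop.hom.comp (Scheme.ΓSpecIso (CommRingCat.of k)).inv.hom).toAlgebra
  have hAN : IsNoetherianRing A := IsLocallyNoetherian.component_noetherian (X := Y) ⟨⊤, isAffineOpen_top Y⟩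
  let E : Y ≅ Spec (CommRingCat.of A) := Y.isoSpec
  have hE : E.hom ≫ Spec.map (CommRingCat.ofHom (algebraMap k A)) = (Y ↘ B0 k) := by
    have h1 : CommRingCat.ofHom (algebraMap k A) = (Scheme.ΓSpecIso (CommRingCat.of k)).inv ≫ (Y ↘ B0 k).appTop := rfl
    rw [h1, Spec.map_comp, ← Category.assoc]
    change (Y.toSpecΓ ≫ Spec.map (Y ↘ B0 k).appTop) ≫ _ = _
    rw [← Scheme.toSpecΓ_naturality, Category.assoc, ← SpecMap_ΓSpecIso_hom, ← Spec.map_comp, Iso.inv_hom_id,
      Spec.map_id, Category.comp_id]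
  let ε₀ : A →+* k := (c.appTop ≫ (Scheme.ΓSpecIso (CommRingCat.of k)).hom).hom
  have hε₀ : c ≫ E.hom = Spec.map (CommRingCat.ofHom ε₀) := by
    change c ≫ Y.toSpecΓ = Spec.map (c.appTop ≫ (Scheme.ΓSpecIso (CommRingCat.of k)).hom)
    rw [Scheme.toSpecΓ_naturality, Spec.map_comp, SpecMap_ΓSpecIso_hom]
  have hε₁ : ε₀.comp (algebraMap k A) = RingHom.id k := by
    have h1 : Spec.map (CommRingCat.ofHom (ε₀.comp (algebraMap k A))) = 𝟙 _ := by
      rw [CommRingCat.ofHom_comp, Spec.map_comp, ← hε₀, Category.assoc, hE, hc]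
    rw [← Spec.map_id] at h1
    exact congrArg CommRingCat.Hom.hom (Spec.map_injective h1)
  let ε : A →ₐ[k] k := { ε₀ with commutes' := fun y => congrArg (fun φ => φ y) hε₁ }
  have hx₀ : (E.hom x).asIdeal = RingHom.ker ε := by
    have h1 : E.hom x = Spec.map (CommRingCat.ofHom ε₀) (IsLocalRing.closedPoint k) := by
      rw [← hε₀, Scheme.Hom.comp_apply, hcx]
    rw [h1]
    change (IsLocalRing.closedPoint k).asIdeal.comap ε₀ = _
    have h2 : (IsLocalRing.closedPoint k).asIdeal = ⊥ :=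
      (Ideal.eq_bot_or_top _).resolve_right (IsLocalRing.closedPoint k).2.ne_top
    rw [h2]
    rfl
  have hcl : E.hom x ∈ closure (Set.range (K.j ≫ E.hom)) := by
    have h1 := image_closure_subset_closure_image (s := Set.range K.j) E.hom.continuous ⟨x, hx₁, rfl⟩
    rw [← Set.range_comp] at h1
    exact h1
  have hncl : E.hom x ∉ Set.range (K.j ≫ E.hom) := by
    rintro ⟨z, hz⟩
    rw [Scheme.Hom.comp_apply] at hz
    exact hx₂ ⟨z, E.hom.isOpenEmbedding.injective hz⟩
  obtain ⟨V, _, _, _, _, ψ, g', hV, hg', hres⟩ :=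
    K140.DvrImm.exists_dvr_spec (K.j ≫ E.hom) ε (E.hom x) hx₀ hcl hncl
  let g : Spec (CommRingCat.of V) ⟶ Y := Spec.map (CommRingCat.ofHom ψ.toRingHom) ≫ E.inv
  have hg₁ : g' ≫ K.j = Spec.map (CommRingCat.ofHom (algebraMap V (FractionRing V))) ≫ g := by
    rw [← cancel_mono E.hom, Category.assoc, hg']
    simp [g]
  have hg₂ : g ≫ (Y ↘ B0 k) = Spec.map (CommRingCat.ofHom (algebraMap k V)) := by
    rw [← hE]
    simp only [g, Category.assoc, Iso.inv_hom_id_assoc]
    rw [← Spec.map_comp, ← CommRingCat.ofHom_comp]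
    congr 2
    exact ψ.comp_algebraMap
  have hg₃ : Spec.map (CommRingCat.ofHom (IsLocalRing.residue V)) ≫ g =
      Spec.map (CommRingCat.ofHom (algebraMap k (IsLocalRing.ResidueField V))) ≫ c := by
    rw [← cancel_mono E.hom]
    simp only [g, Category.assoc, Iso.inv_hom_id, Category.comp_id]
    rw [hε₀, ← Spec.map_comp, ← Spec.map_comp, ← CommRingCat.ofHom_comp, ← CommRingCat.ofHom_comp]
    congr 2
    ext y
    exact hres y
  have hgood : KGood S.toKDat r (tpt (k := k) (Spec.map (CommRingCat.ofHom (algebraMap k (FractionRing V)))))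
      (kmap ((kOf (FractionRing V)).comp (algebraMap V (FractionRing V))) (kco g)) := by
    rw [← kcrd_comp_spec, ← hg₁]
    refine good_of_hom hF K (Over.homMk g' ?_ :
      tpt (k := k) (Spec.map (CommRingCat.ofHom (algebraMap k (FractionRing V)))) ⟶ K.Z)
    rw [← K.w, ← Category.assoc, hg₁, Category.assoc]
    erw [hg₂]
    rw [← Spec.map_comp, ← CommRingCat.ofHom_comp, ← IsScalarTower.algebraMap_eq]
    rfl
  have hkingV : IsKing (kmap (IsLocalRing.residue V) (kco g)) := by
    rw [← kco_comp, hg₃, kco_comp]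
    exact hking.map _ hV
  obtain ⟨c₃, hc₃⟩ := K.lift _ _ (hS.closed V hV (kco g) hgood hkingV)
  have h4 : c₃.left ≫ K.j = Spec.map (CommRingCat.ofHom (algebraMap k (IsLocalRing.ResidueField V))) ≫ c := by
    rw [← hg₃]
    apply kcrd_ext
    · rw [Category.assoc, K.w, Over.w, hg₃, Category.assoc]
      erw [hc]
      rw [Category.comp_id]
      rfl
    · rw [hc₃, kcrd_comp_spec]
  apply hx₂
  refine ⟨c₃.left (IsLocalRing.closedPoint _), ?_⟩
  rw [← Scheme.Hom.comp_apply, h4, Scheme.Hom.comp_apply, hcx]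

end Curve

end K140.BM
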