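import Groth.Agent.BunMod.K140.Defs3
import Groth.Agent.Divis.IdealComap

/-!
# BunMod team: ideals on the quotient and on the atlas

`comap_injective`: an ideal sheaf on the quotient is determined by its inverse image on the atlas.
-/

set_option autoImplicit false

universe u

open CategoryTheory CategoryTheory.Limits AlgebraicGeometry TensorProduct

namespace K140.BM

section

variable {k : Type u} [Field k] {Z M : Over (B0 k)}

theorem comap_map_of_isReynolds (π : Z ⟶ M) {G : (Z ⟶ Z) → Prop} {V : M.left.Opens} (h : IsReynolds π G V)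
    (hinj : Function.Injective (π.left.app V)) (I : Ideal Γ(M.left, V)) :
    (I.map (π.left.app V).hom).comap (π.left.app V).hom = I := by
  obtain ⟨ρ, h1, h2, h3, -⟩ := h
  refine le_antisymm ?_ Ideal.le_comap_map
  intro x hx
  have hx' : (π.left.app V).hom x ∈ I.map (π.left.app V).hom := hx
  have key : ∀ y ∈ I.map (π.left.app V).hom, ∀ c, ∃ g ∈ I, π.left.app V g = ρ (c * y) := by
    intro y hy
    refine Submodule.span_induction (p := fun y _ => ∀ c, ∃ g ∈ I, π.left.app V g = ρ (c * y)) ?_ ?_ ?_ ?_ hy
    · rintro _ ⟨g, hg, rfl⟩ c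
      obtain ⟨h', hh'⟩ := h1 c
      refine ⟨g * h', I.mul_mem_right _ hg, ?_⟩
      rw [map_mul, hh', mul_comm c]
      exact (h3 g c).symm
    · intro c
      exact ⟨0, I.zero_mem, by rw [mul_zero, map_zero, map_zero]⟩
    · rintro y y' - - hy hy' c
      obtain ⟨g, hg, e⟩ := hy c
      obtain ⟨g', hg', e'⟩ := hy' c
      exact ⟨g + g', I.add_mem hg hg', by rw [mul_add, map_add, map_add, e, e']⟩
    · intro c' y _ hy c
      obtain ⟨g, hg, e⟩ := hy (c * c')
      exact ⟨g, hg, by rw [e, smul_eq_mul, mul_assoc]⟩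
  obtain ⟨g, hg, e⟩ := key _ hx' 1
  rw [one_mul] at e
  have e' : π.left.app V g = π.left.app V x := by
    rw [e]
    exact h2 x
  rwa [← hinj e']

end

variable {k : Type u} [Field k] {X : Scheme.{u}} [X.Over (Spec (CommRingCat.of k))]
  {Q : ∀ T : Over (B0 k), (ModFun.modProb (st k X)).Fam T → Prop} (A : AtlasC k X Q)

/-- An ideal sheaf on the quotient is the direct image of its inverse image on the atlas. -/
theorem AtlasC.map_comap (I : A.M.left.IdealSheafData) : (I.comap A.π.left).map A.π.left = I := by
  have haff := A.aff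
  choose V hV hVa hR using A.charts
  refine Scheme.IdealSheafData.ext_of_iSup_eq_top (fun x : A.M.left => ⟨V x, hVa x⟩) ?_ ?_
  · rw [eq_top_iff]
    intro x _
    exact TopologicalSpace.Opens.mem_iSup.mpr ⟨x, hV x⟩
  · intro x
    rw [Scheme.IdealSheafData.ideal_map_of_isAffineHom,
      Groth.Agent.Divis.IdealComap.ideal_comap I A.π.left ⟨V x, hVa x⟩ ⟨A.π.left ⁻¹ᵁ V x, (hVa x).preimage A.π.left⟩
        le_rfl, Scheme.Hom.appLE_eq_app]
    exact comap_map_of_isReynolds A.π (hR x) (A.functions (V x) (hVa x)).1 (I.ideal ⟨V x, hVa x⟩)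

/-- An ideal sheaf on the quotient is determined by its inverse image on the atlas. -/
theorem AtlasC.comap_injective : Function.Injective fun I : A.M.left.IdealSheafData => I.comap A.π.left := by
  intro I J h
  rw [← A.map_comap I, ← A.map_comap J]
  exact congrArg (fun K => Scheme.IdealSheafData.map K A.π.left) h

end K140.BM
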