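import Groth.Agent.Ega43.DvrIntegral
import Mathlib.FieldTheory.IsAlgClosed.Basic
import Mathlib.RingTheory.Localization.AtPrime.Basic
import Mathlib.RingTheory.Ideal.Quotient.Noetherian

/-!
# Discrete valuation rings with residue field `k` through a rational point
-/

set_option autoImplicit false

universe u

namespace K140.DvrPt

open IsLocalRing

/-- Let `k` be algebraically closed, `A` a Noetherian `k`-algebra with a rational point `ε`, `P` a prime strictly below
the kernel of `ε` and `a ∉ P`. There is a discrete valuation ring `V` with residue field `k` and `ψ : A → V` which kills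
`P`, does not kill `a` and reduces to `ε`. -/
theorem exists_dvr {k A : Type u} [Field k] [IsAlgClosed k] [CommRing A] [Algebra k A] [IsNoetherianRing A]
    (ε : A →ₐ[k] k) (P : Ideal A) [P.IsPrime] (hP : P ≤ RingHom.ker ε) (hne : P ≠ RingHom.ker ε) (a : A) (ha : a ∉ P) :
    ∃ (V : Type u) (_ : CommRing V) (_ : IsDomain V) (_ : IsDiscreteValuationRing V) (_ : Algebra k V)
      (ψ : A →ₐ[k] V), P ≤ RingHom.ker ψ ∧ ψ a ≠ 0 ∧
        (∀ x, residue V (ψ x) = algebraMap k (ResidueField V) (ε x)) ∧
        Function.Bijective (algebraMap k (ResidueField V)) := by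
  let ε' : (A ⧸ P) →ₐ[k] k := Ideal.Quotient.liftₐ P ε (fun x hx => hP hx)
  have hε' : ∀ x, ε' (Ideal.Quotient.mk P x) = ε x := fun x => rfl
  let m : Ideal (A ⧸ P) := RingHom.ker ε'
  have hm : m.IsPrime := RingHom.ker_isPrime ε'
  let R := Localization.AtPrime m
  have hinj : Function.Injective (algebraMap (A ⧸ P) R) :=
    IsLocalization.injective R (Ideal.primeCompl_le_nonZeroDivisors m)
  have hdom : IsDomain R := IsLocalization.isDomain_of_le_nonZeroDivisors _ (Ideal.primeCompl_le_nonZeroDivisors m)
  have hmb : m ≠ ⊥ := by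
    intro h
    apply hne
    apply le_antisymm hP
    intro x hx
    have h1 : Ideal.Quotient.mk P x ∈ m := by
      change ε' _ = 0
      rw [hε']
      exact hx
    rw [h, Ideal.mem_bot, Ideal.Quotient.eq_zero_iff_mem] at h1
    exact h1
  have hR : maximalIdeal R ∉ minimalPrimes R := by
    rw [IsDomain.minimalPrimes_eq_singleton_bot, Set.mem_singleton_iff]
    intro h
    apply hmb
    have h1 : (maximalIdeal R).comap (algebraMap (A ⧸ P) R) = m := Localization.AtPrime.under_maximalIdeal (I := m)
    rw [h] at h1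
    rw [← h1, Ideal.comap_bot_of_injective _ hinj]
  have ha' : ¬ IsNilpotent (algebraMap (A ⧸ P) R (Ideal.Quotient.mk P a)) := by
    rw [isNilpotent_iff_eq_zero, map_eq_zero_iff _ hinj, Ideal.Quotient.eq_zero_iff_mem]
    exact ha
  obtain ⟨V, _, _, _, _, _, h1, h2, h3⟩ := Groth.Agent.Ega43.DvrIntegral.exists_dvr hR _ ha'
  let _ : Algebra k V := ((algebraMap R V).comp (algebraMap k R)).toAlgebra
  have hst : IsScalarTower k R V := IsScalarTower.of_algebraMap_eq fun x => rfl
  let ψ : A →ₐ[k] V :=
    ((IsScalarTower.toAlgHom k R V).comp (IsScalarTower.toAlgHom k (A ⧸ P) R)).comp (Ideal.Quotient.mkₐ k P)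
  have hψ : ∀ x, ψ x = algebraMap R V (algebraMap (A ⧸ P) R (Ideal.Quotient.mk P x)) := fun x => rfl
  have hψm : ∀ x, ε x = 0 → ψ x ∈ maximalIdeal V := by
    intro x hx
    have h4 : algebraMap (A ⧸ P) R (Ideal.Quotient.mk P x) ∈ maximalIdeal R := by
      have h5 : (maximalIdeal R).comap (algebraMap (A ⧸ P) R) = m := Localization.AtPrime.under_maximalIdeal (I := m)
      rw [← Ideal.mem_comap, h5]
      change ε' _ = 0
      rw [hε', hx]
    rw [hψ]
    exact map_nonunit (algebraMap R V) _ h4
  have hres : ∀ x, residue V (ψ x) = algebraMap k (ResidueField V) (ε x) := by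
    intro x
    have h4 : ψ (x - algebraMap k A (ε x)) ∈ maximalIdeal V := hψm _ (by rw [map_sub, AlgHom.commutes]; simp)
    rw [map_sub, AlgHom.commutes] at h4
    have h5 := (residue_eq_zero_iff _).mpr h4
    rw [map_sub, sub_eq_zero] at h5
    rw [h5]
    rfl
  refine ⟨V, inferInstance, inferInstance, inferInstance, inferInstance, ψ, ?_, ?_, hres, ?_⟩
  · intro x hx
    change ψ x = 0
    rw [hψ, Ideal.Quotient.eq_zero_iff_mem.mpr hx, map_zero, map_zero]
  · exact h1
  · refine IsAlgClosed.ringHom_bijective_of_isIntegral _ ?_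
    intro y
    -- `y` is integral over `R`, whose image in the residue field is the image of `k`
    have h4 : ∀ z : R, ∃ c : k, algebraMap R (ResidueField V) z = algebraMap k (ResidueField V) c := by
      intro z
      obtain ⟨u, s, rfl⟩ := IsLocalization.exists_mk'_eq m.primeCompl z
      obtain ⟨u, rfl⟩ := Ideal.Quotient.mk_surjective u
      obtain ⟨s, hs⟩ := s
      obtain ⟨s, rfl⟩ := Ideal.Quotient.mk_surjective s
      have hs' : ε s ≠ 0 := fun h => hs h
      refine ⟨ε u * (ε s)⁻¹, ?_⟩
      have h5 : algebraMap R (ResidueField V) (algebraMap (A ⧸ P) R (Ideal.Quotient.mk P s)) =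
        algebraMap k (ResidueField V) (ε s) := hres s
      have h6 : algebraMap R (ResidueField V) (algebraMap (A ⧸ P) R (Ideal.Quotient.mk P u)) =
        algebraMap k (ResidueField V) (ε u) := hres u
      have h7 := congrArg (algebraMap R (ResidueField V))
        (IsLocalization.mk'_spec R (Ideal.Quotient.mk P u) (⟨Ideal.Quotient.mk P s, hs⟩ : m.primeCompl))
      rw [map_mul, h6] at h7
      change _ * algebraMap R (ResidueField V) (algebraMap (A ⧸ P) R (Ideal.Quotient.mk P s)) = _ at h7
      rw [h5] at h7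
      rw [map_mul, ← h7, mul_assoc, ← map_mul, mul_inv_cancel₀ hs', map_one, mul_one]
    obtain ⟨p, hp, hp'⟩ := h3.isIntegral y
    choose c hc using h4
    have h8 : ∀ n, (algebraMap k (ResidueField V)) (c (p.coeff n)) = algebraMap R (ResidueField V) (p.coeff n) :=
      fun n => (hc _).symm
    have h9 : (p.map (algebraMap R (ResidueField V))) ∈ Polynomial.lifts (algebraMap k (ResidueField V)) := by
      rw [Polynomial.lifts_iff_coeff_lifts]
      intro n
      rw [Polynomial.coeff_map]
      exact ⟨_, h8 n⟩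
    obtain ⟨q, hq1, hq2, hq3⟩ := Polynomial.lifts_and_degree_eq_and_monic h9 (hp.map _)
    refine ⟨q, hq3, ?_⟩
    rw [← Polynomial.eval_map, hq1, Polynomial.eval_map]
    exact hp'

end K140.DvrPt
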