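import Groth.Agent.BunMod.K140.Defs3
import Mathlib.AlgebraicGeometry.AffineSpace
import Mathlib.AlgebraicGeometry.Morphisms.Smooth
import Mathlib.LinearAlgebra.Matrix.NonsingularInverse

/-!
# BunMod team: the scheme `T × GL_b × GL_a`

* `GLT b a T`: pairs of invertible matrices of functions, over `T`; `GLT.pr`, `GLT.u`, `GLT.v`, `GLT.exists_lift`,
  `GLT.hom_ext`;
* it is irreducible when `T` is; `GLT.pr` is smooth, surjective and open.
-/

set_option autoImplicit false

universe u

open CategoryTheory CategoryTheory.Limits AlgebraicGeometry TensorProduct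

namespace K140.BM

variable {k : Type u} [Field k]

/-- Index set of the entries of two matrices. -/
abbrev GIdx (b a : ℕ) : Type u := ULift.{u} ((Fin b × Fin b) ⊕ (Fin a × Fin a))

/-- Affine space of finite dimension is smooth over its base. -/
theorem smooth_affineSpace (n : Type u) [Finite n] (S : Scheme.{u}) : Smooth (𝔸(n; S) ↘ S) := by
  wlog hS : ∃ R, S = Spec R
  · refine (IsZariskiLocalAtTarget.iff_of_openCover (P := @Smooth) S.affineCover).mpr ?_
    intro i
    have := this (n := n) (S.affineCover.X i) ⟨_, rfl⟩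
    rwa [← (AffineSpace.isPullback_map (n := n) (S.affineCover.f i)).isoPullback_hom_snd,
      MorphismProperty.cancel_left_of_respectsIso (P := @Smooth)] at this
  obtain ⟨R, rfl⟩ := hS
  rw [← MorphismProperty.cancel_left_of_respectsIso (P := @Smooth)
    (AffineSpace.SpecIso n R).inv, AffineSpace.SpecIso_inv_over]
  rw [HasRingHomProperty.Spec_iff (P := @Smooth)]
  change (algebraMap R (MvPolynomial n R)).Smooth
  rw [RingHom.smooth_algebraMap]
  exact ⟨inferInstance, inferInstance⟩

variable (b a : ℕ) (T : Over (B0 k))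

/-- The first universal matrix on the affine space. -/
noncomputable def GLT.mu : Matrix (Fin b) (Fin b) Γ(𝔸(GIdx.{u} b a; T.left), ⊤) := fun i j =>
  AffineSpace.coord T.left ⟨Sum.inl (i, j)⟩

/-- The second universal matrix on the affine space. -/
noncomputable def GLT.mv : Matrix (Fin a) (Fin a) Γ(𝔸(GIdx.{u} b a; T.left), ⊤) := fun i j =>
  AffineSpace.coord T.left ⟨Sum.inr (i, j)⟩

/-- The open set where the two matrices are invertible. -/
noncomputable def GLT.op : (𝔸(GIdx.{u} b a; T.left)).Opens :=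
  (𝔸(GIdx.{u} b a; T.left)).basicOpen ((GLT.mu b a T).det * (GLT.mv b a T).det)

/-- `T × GL_b × GL_a`. -/
noncomputable def GLT : Over (B0 k) :=
  Over.mk ((GLT.op b a T).ι ≫ (𝔸(GIdx.{u} b a; T.left) ↘ T.left) ≫ T.hom)

namespace GLT

/-- The projection. -/
noncomputable def pr : GLT b a T ⟶ T := Over.homMk ((GLT.op b a T).ι ≫ (𝔸(GIdx.{u} b a; T.left) ↘ T.left))
  (by rw [Category.assoc]; rfl)

theorem isUnit_of_basicOpen_eq_top {X : Scheme.{u}} (r : Γ(X, ⊤)) (h : X.basicOpen r = ⊤) : IsUnit r := by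
  have h1 := X.toRingedSpace.isUnit_res_basicOpen r
  have h2 : ∀ (V : X.Opens) (e : V = ⊤) (i : V ≤ ⊤), IsUnit (X.presheaf.map (homOfLE i).op r) → IsUnit r := by
    rintro V rfl i hi
    rwa [show (homOfLE i).op = 𝟙 _ from rfl, X.presheaf.map_id] at hi
  exact h2 _ h _ h1

theorem isUnit_det : IsUnit ((GLT.op b a T).ι.appTop ((mu b a T).det * (mv b a T).det)) := by
  apply isUnit_of_basicOpen_eq_top
  rw [← Scheme.preimage_basicOpen_top]
  exact Scheme.Opens.ι_preimage_self _

theorem isUnit_det_u : IsUnit ((mu b a T).map (GLT.op b a T).ι.appTop.hom).det := by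
  have h := isUnit_det b a T
  rw [map_mul] at h
  have h2 := isUnit_of_mul_isUnit_left h
  rwa [show (GLT.op b a T).ι.appTop (mu b a T).det = ((mu b a T).map (GLT.op b a T).ι.appTop.hom).det from
    RingHom.map_det (GLT.op b a T).ι.appTop.hom (mu b a T)] at h2

theorem isUnit_det_v : IsUnit ((mv b a T).map (GLT.op b a T).ι.appTop.hom).det := by
  have h := isUnit_det b a T
  rw [map_mul] at h
  have h2 := isUnit_of_mul_isUnit_right h
  rwa [show (GLT.op b a T).ι.appTop (mv b a T).det = ((mv b a T).map (GLT.op b a T).ι.appTop.hom).det from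
    RingHom.map_det (GLT.op b a T).ι.appTop.hom (mv b a T)] at h2

/-- The first universal invertible matrix. -/
noncomputable def u : GL (Fin b) Γ((GLT b a T).left, ⊤) :=
  Matrix.GeneralLinearGroup.mk'' ((mu b a T).map (GLT.op b a T).ι.appTop.hom) (isUnit_det_u b a T)

/-- The second universal invertible matrix. -/
noncomputable def v : GL (Fin a) Γ((GLT b a T).left, ⊤) :=
  Matrix.GeneralLinearGroup.mk'' ((mv b a T).map (GLT.op b a T).ι.appTop.hom) (isUnit_det_v b a T)

variable {b a T}

theorem hom_ext {T' : Over (B0 k)} {p p' : T' ⟶ GLT b a T} (h : p ≫ pr b a T = p' ≫ pr b a T)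
    (hu : Matrix.GeneralLinearGroup.map p.left.appTop.hom (u b a T) =
      Matrix.GeneralLinearGroup.map p'.left.appTop.hom (u b a T))
    (hv : Matrix.GeneralLinearGroup.map p.left.appTop.hom (v b a T) =
      Matrix.GeneralLinearGroup.map p'.left.appTop.hom (v b a T)) : p = p' := by
  apply Over.OverMorphism.ext
  refine (cancel_mono (GLT.op b a T).ι).mp ?_
  refine AffineSpace.hom_ext ?_ ?_
  · have h' : p.left ≫ (GLT.op b a T).ι ≫ (𝔸(GIdx.{u} b a; T.left) ↘ T.left) =
        p'.left ≫ (GLT.op b a T).ι ≫ (𝔸(GIdx.{u} b a; T.left) ↘ T.left) := congrArg (fun q => q.left) h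
    rw [Category.assoc, Category.assoc]
    exact h'
  · rintro ⟨⟨i, j⟩ | ⟨i, j⟩⟩
    · have := congrFun (congrFun (congrArg (fun q : GL (Fin b) Γ(T'.left, ⊤) => q.1) hu) i) j
      exact this
    · have := congrFun (congrFun (congrArg (fun q : GL (Fin a) Γ(T'.left, ⊤) => q.1) hv) i) j
      exact this

theorem exists_lift {T' : Over (B0 k)} (c : T' ⟶ T) (x : GL (Fin b) Γ(T'.left, ⊤)) (y : GL (Fin a) Γ(T'.left, ⊤)) :
    ∃ p : T' ⟶ GLT b a T, p ≫ pr b a T = c ∧ Matrix.GeneralLinearGroup.map p.left.appTop.hom (u b a T) = x ∧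
      Matrix.GeneralLinearGroup.map p.left.appTop.hom (v b a T) = y := by
  let q : T'.left ⟶ 𝔸(GIdx.{u} b a; T.left) := AffineSpace.homOfVector c.left
    fun i => Sum.elim (fun p => x.1 p.1 p.2) (fun p => y.1 p.1 p.2) i.down
  have hqu : (mu b a T).map q.appTop.hom = x.1 := by
    ext i j
    exact AffineSpace.homOfVector_appTop_coord _ _ _
  have hqv : (mv b a T).map q.appTop.hom = y.1 := by
    ext i j
    exact AffineSpace.homOfVector_appTop_coord _ _ _
  have hq : q ⁻¹ᵁ GLT.op b a T = ⊤ := by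
    rw [GLT.op, Scheme.preimage_basicOpen_top]
    apply Scheme.basicOpen_of_isUnit
    rw [map_mul]
    refine IsUnit.mul ?_ ?_
    · change IsUnit (q.appTop.hom (mu b a T).det)
      rw [RingHom.map_det]
      change IsUnit ((mu b a T).map q.appTop.hom).det
      rw [hqu]
      exact (Matrix.isUnit_iff_isUnit_det _).mp x.isUnit
    · change IsUnit (q.appTop.hom (mv b a T).det)
      rw [RingHom.map_det]
      change IsUnit ((mv b a T).map q.appTop.hom).det
      rw [hqv]
      exact (Matrix.isUnit_iff_isUnit_det _).mp y.isUnit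
  have hr : Set.range q ⊆ Set.range (GLT.op b a T).ι := by
    rw [Scheme.Opens.range_ι]
    rintro _ ⟨t, rfl⟩
    have : t ∈ q ⁻¹ᵁ GLT.op b a T := by rw [hq]; trivial
    exact this
  let q' : T'.left ⟶ (GLT.op b a T : Scheme.{u}) := IsOpenImmersion.lift (GLT.op b a T).ι q hr
  have hq' : q' ≫ (GLT.op b a T).ι = q := IsOpenImmersion.lift_fac _ _ _
  have hqc : q ≫ (𝔸(GIdx.{u} b a; T.left) ↘ T.left) = c.left := AffineSpace.homOfVector_over _ _
  refine ⟨Over.homMk q' ?_, ?_, ?_, ?_⟩
  · change q' ≫ (GLT.op b a T).ι ≫ (𝔸(GIdx.{u} b a; T.left) ↘ T.left) ≫ T.hom = T'.hom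
    rw [reassoc_of% hq', reassoc_of% hqc, Over.w]
  · apply Over.OverMorphism.ext
    change q' ≫ (GLT.op b a T).ι ≫ (𝔸(GIdx.{u} b a; T.left) ↘ T.left) = c.left
    rw [reassoc_of% hq', hqc]
  · apply Units.ext
    change ((mu b a T).map (GLT.op b a T).ι.appTop.hom).map q'.appTop.hom = x.1
    rw [← hqu, Matrix.map_map]
    congr 1
    rw [← RingHom.coe_comp, ← CommRingCat.hom_comp, ← Scheme.Hom.comp_appTop, hq']
  · apply Units.ext
    change ((mv b a T).map (GLT.op b a T).ι.appTop.hom).map q'.appTop.hom = y.1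
    rw [← hqv, Matrix.map_map]
    congr 1
    rw [← RingHom.coe_comp, ← CommRingCat.hom_comp, ← Scheme.Hom.comp_appTop, hq']

/-- The unit section. -/
theorem exists_one : ∃ p : T ⟶ GLT b a T, p ≫ pr b a T = 𝟙 T ∧
    Matrix.GeneralLinearGroup.map p.left.appTop.hom (u b a T) = 1 ∧
    Matrix.GeneralLinearGroup.map p.left.appTop.hom (v b a T) = 1 :=
  exists_lift (𝟙 T) 1 1

instance smooth_pr : Smooth (pr b a T).left := by
  have h : Smooth (𝔸(GIdx.{u} b a; T.left) ↘ T.left) := smooth_affineSpace _ _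
  change Smooth ((GLT.op b a T).ι ≫ (𝔸(GIdx.{u} b a; T.left) ↘ T.left))
  infer_instance

theorem surjective_pr : Function.Surjective (pr b a T).left := by
  obtain ⟨p, hp, -, -⟩ := exists_one (b := b) (a := a) (T := T)
  intro t
  refine ⟨p.left t, ?_⟩
  rw [← Scheme.Hom.comp_apply, ← Over.comp_left, hp]
  rfl

instance irreducible [IrreducibleSpace T.left] : IrreducibleSpace (GLT b a T).left := by
  have h1 : Nonempty T.left := inferInstance
  obtain ⟨p, -, -, -⟩ := exists_one (b := b) (a := a) (T := T)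
  have h2 : Nonempty (GLT b a T).left := ⟨p.left h1.some⟩
  change IrreducibleSpace (GLT.op b a T : Scheme.{u})
  have h3 : Nonempty (GLT.op b a T : Scheme.{u}) := h2
  exact (GLT.op b a T).ι.isOpenEmbedding.irreducibleSpace

end GLT

end K140.BM
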