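import Groth.Agent.BunMod.K140.Defs3
import Groth.Prelude.Def_BlowUp2
import Mathlib.AlgebraicGeometry.Geometrically.Connected

/-!
PLAN FILE (sorried statements, never imported): BunMod parts A, B, D. See board posts 4931, 5162, 5354.
-/

set_option autoImplicit false

universe u

open CategoryTheory CategoryTheory.Limits AlgebraicGeometry TensorProduct

namespace K140.BM.Plan

open K140.BM

section AB

variable (k : Type u) [Field k] [IsAlgClosed k] [CharZero k] (X : Scheme.{u}) [X.Over (Spec (CommRingCat.of k))]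
  [IsProper (X ↘ Spec (CommRingCat.of k))] [Smooth (X ↘ Spec (CommRingCat.of k))]
  [GeometricallyConnected (X ↘ Spec (CommRingCat.of k))]

/-- A/B2 (helper656). Bounds, King's inequality, closedness. -/
theorem exists_kfit (hdim : topologicalKrullDim ↥X = 1) (r : ℕ) (hr : 1 ≤ r) :
    ∃ (S : KSet X) (a b : ℕ), KFit k S r a b := by
  sorry

variable {k X}

/-- A/B1 (helper311). Representability of `KGood`. -/
theorem exists_krep (hdim : topologicalKrullDim ↥X = 1) {S : KSet X} {r a b : ℕ} (hr : 1 ≤ r)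
    (hS : KFit k S r a b) : Nonempty (KRep (k := k) S.toKDat r a b) := by
  sorry

/-- A/B1. `E_α` commutes with base change. -/
theorem ke_pull (D : KDat X) {a b : ℕ} {T T' : Over (B0 k)} (g : T' ⟶ T) (α : Kr a b D.h Γ(T.left, ⊤)) :
    ∃ e : pl k X g (KE D T α) ≅ KE D T' (kmap g.left.appTop.hom α), True := by
  sorry

/-- A/B1. Good Kronecker modules are stable under base change. -/
theorem kgood_pull (D : KDat X) {r a b : ℕ} {T T' : Over (B0 k)} (g : T' ⟶ T) (α : Kr a b D.h Γ(T.left, ⊤))
    (h : KGood D r T α) : KGood D r T' (kmap g.left.appTop.hom α) := by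
  sorry

/-- A/B1. Change of frames. -/
theorem ke_act (D : KDat X) {a b : ℕ} {T : Over (B0 k)} (α : Kr a b D.h Γ(T.left, ⊤))
    (u : GL (Fin b) Γ(T.left, ⊤)) (v : GL (Fin a) Γ(T.left, ⊤)) : Nonempty (KE D T (kact u.1 v.1 α) ≅ KE D T α) := by
  sorry

/-- A/B1. Good is independent of the frames. -/
theorem kgood_act (D : KDat X) {r a b : ℕ} {T : Over (B0 k)} (α : Kr a b D.h Γ(T.left, ⊤)) (h : KGood D r T α)
    (u : GL (Fin b) Γ(T.left, ⊤)) (v : GL (Fin a) Γ(T.left, ⊤)) : KGood D r T (kact u.1 v.1 α) := by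
  sorry

/-- A/B1. Every admissible family comes Zariski locally from a good Kronecker module. -/
theorem ke_lift (hdim : topologicalKrullDim ↥X = 1) {S : KSet X} {r a b : ℕ} (hr : 1 ≤ r) (hS : KFit k S r a b)
    (T : Over (B0 k)) (F : (PicF.XT (st k X) T).Modules) (hF : BunMod.ussOK (st k X) r 0 T F) (t : T.left) :
    ∃ (U : T.left.Opens) (α : Kr a b S.h Γ((opn T U).left, ⊤)), t ∈ U ∧ KGood S.toKDat r (opn T U) α ∧
      Nonempty (KE S.toKDat (opn T U) α ≅ pl k X (opi T U) F) := by
  sorry

/-- A/B1. Isomorphic families differ by frames. -/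
theorem ke_orb (hdim : topologicalKrullDim ↥X = 1) {S : KSet X} {r a b : ℕ} (hr : 1 ≤ r) (hS : KFit k S r a b)
    (T : Over (B0 k)) (α α' : Kr a b S.h Γ(T.left, ⊤)) (h : KGood S.toKDat r T α) (h' : KGood S.toKDat r T α')
    (he : Nonempty (KE S.toKDat T α ≅ KE S.toKDat T α')) :
    ∃ (u : GL (Fin b) Γ(T.left, ⊤)) (v : GL (Fin a) Γ(T.left, ⊤)), α' = kact u.1 v.1 α := by
  sorry

variable (k X)

/-- B assembly (helper140). -/
theorem exists_atlas (hdim : topologicalKrullDim ↥X = 1) (r : ℕ) (hr : 1 ≤ r) :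
    Nonempty (AtlasC k X (BunMod.ussOK (st k X) r 0)) := by
  sorry

end AB

section D

variable (k : Type u) [Field k] [IsAlgClosed k] [CharZero k] (X : Scheme.{u}) [X.Over (Spec (CommRingCat.of k))]
  [IsProper (X ↘ Spec (CommRingCat.of k))] [Smooth (X ↘ Spec (CommRingCat.of k))]
  [GeometricallyConnected (X ↘ Spec (CommRingCat.of k))] (hdim : topologicalKrullDim ↥X = 1)
  (g : ℕ) (hg : Curv2.genus k X = g) (hg2 : 2 ≤ g)
  (N : X.Modules) (hN : PicF.IsInvertible N) (hNdeg : Curv2.deg k X N 1 = (g : ℤ) - 1)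

/-- D2 (helper977). -/
theorem smooth_atlas {r : ℕ} (hr : 1 ≤ r) (A : AtlasC k X (BunMod.ussOK (st k X) r 0)) : Smooth A.Z.hom := by
  sorry

/-- D2 (helper977), fixed determinant. -/
theorem smooth_atlas_det {r : ℕ} (hr : 2 ≤ r) (L : X.Modules) (hL : PicF.IsInvertible L)
    (hLd : Curv2.deg k X L 1 = 0) (A : AtlasC k X (BunMod.ussDetOK (st k X) r L)) : Smooth A.Z.hom := by
  sorry

/-- D0 (helper54). Base change of the theta ideal, for every finite locally free family. -/
theorem thetaIdeal_pull {T T' : Over (B0 k)} (f : T' ⟶ T) {r : ℕ} (E : (PicF.XT (st k X) T).Modules)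
    (hE : FlatMod.IsFinLocFreeOfRank r E) :
    thetaIdeal k N T' (pl k X f E) = (thetaIdeal k N T E).comap f.left := by
  sorry

/-- D5 (helper892). `t` is a `k`-point of `Z` fixed by the action of `(u, v)`: if a local section `d` of the theta ideal
generates it near `t`, then `(u, v)^* d = d` modulo the maximal ideal times the theta ideal: formulate as you need for
D4, e.g. for an affine open `W ∋ t` stable under the action. -/
theorem character_trivial : True := by
  trivial

/-- D final (D6): for every atlas of the semistable problem, resp. of the problem with fixed determinant (`r ≥ 2`),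
the theta ideal of the universal family is an effective Cartier ideal, radical, and it is the pull-back of the vanishing
ideal of the theta locus. `φ` is the morphism to the quotient defined by the atlas. -/
theorem theta_main {r : ℕ} (hr : 1 ≤ r) (A : AtlasC k X (BunMod.ussOK (st k X) r 0))
    (φ : (BunMod.USS (st k X) r 0).Hom ⊤ A.M)
    (hφ : ∀ (T : Over (B0 k)) (c : T ⟶ A.Z) (h : (BunMod.USS (st k X) r 0).ok T (pl k X c A.E)),
      φ.app T (pl k X c A.E) trivial h = c ≫ A.π) :
    BlowUp.IsEffCartierIdeal (thetaIdeal k N A.Z A.E) ∧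
      (Scheme.IdealSheafData.vanishingIdeal
        ⟨BunMod.thetaLocus (st k X) (BunMod.ussOK (st k X) r 0) φ N, isClosed_closure⟩).comap A.π.left =
      thetaIdeal k N A.Z A.E ∧
      BlowUp.IsEffCartierIdeal (Scheme.IdealSheafData.vanishingIdeal
        ⟨BunMod.thetaLocus (st k X) (BunMod.ussOK (st k X) r 0) φ N, isClosed_closure⟩) := by
  sorry

/-- D final, fixed determinant. -/
theorem theta_main_det {r : ℕ} (hr : 2 ≤ r) (L : X.Modules) (hL : PicF.IsInvertible L)
    (hLd : Curv2.deg k X L 1 = 0) (A : AtlasC k X (BunMod.ussDetOK (st k X) r L))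
    (φ : (BunMod.USSdet (st k X) r L).Hom ⊤ A.M)
    (hφ : ∀ (T : Over (B0 k)) (c : T ⟶ A.Z) (h : (BunMod.USSdet (st k X) r L).ok T (pl k X c A.E)),
      φ.app T (pl k X c A.E) trivial h = c ≫ A.π) :
    BlowUp.IsEffCartierIdeal (thetaIdeal k N A.Z A.E) ∧
      (Scheme.IdealSheafData.vanishingIdeal
        ⟨BunMod.thetaLocus (st k X) (BunMod.ussDetOK (st k X) r L) φ N, isClosed_closure⟩).comap A.π.left =
      thetaIdeal k N A.Z A.E ∧
      BlowUp.IsEffCartierIdeal (Scheme.IdealSheafData.vanishingIdeal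
        ⟨BunMod.thetaLocus (st k X) (BunMod.ussDetOK (st k X) r L) φ N, isClosed_closure⟩) := by
  sorry

end D

end K140.BM.Plan
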