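import Groth.Agent.BunMod.K140.GLT
import Mathlib.AlgebraicGeometry.ResidueField
import Mathlib.AlgebraicGeometry.AlgClosed.Basic

/-!
# BunMod team: the points of the atlas which come from a family are irreducible

`AtlasC.orbSet A T F`: the points `z` of the atlas such that `E_z ≅ F_t` for some point `t` of `T`, over some field.
`AtlasC.isPreirreducible_orbSet`: it is irreducible when `T` is.
-/

set_option autoImplicit false

universe u

open CategoryTheory CategoryTheory.Limits AlgebraicGeometry TensorProduct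

namespace K140.BM

section

variable {k : Type u} [Field k] {X : Scheme.{u}} [X.Over (Spec (CommRingCat.of k))]

theorem XTmap_comp {T T' T'' : Over (B0 k)} (h : T'' ⟶ T') (g : T' ⟶ T) :
    PicF.XTmap (st k X) h ≫ PicF.XTmap (st k X) g = PicF.XTmap (st k X) (h ≫ g) := by
  have hf : ∀ {T T' : Over (B0 k)} (g : T' ⟶ T), PicF.XTmap (st k X) g ≫ pullback.fst (st k X) T.hom =
      pullback.fst (st k X) T'.hom := fun g => (pullback.lift_fst _ _ _).trans (Category.comp_id _)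
  have hs : ∀ {T T' : Over (B0 k)} (g : T' ⟶ T), PicF.XTmap (st k X) g ≫ pullback.snd (st k X) T.hom =
      pullback.snd (st k X) T'.hom ≫ g.left := fun g => pullback.lift_snd _ _ _
  apply pullback.hom_ext
  · rw [Category.assoc, hf, hf, hf]
  · rw [Category.assoc, hs, ← Category.assoc, hs, hs, Over.comp_left, Category.assoc]

/-- Transitivity of the pull-back of families. -/
noncomputable def plC {T T' T'' : Over (B0 k)} (h : T'' ⟶ T') (g : T' ⟶ T) (E : (PicF.XT (st k X) T).Modules) :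
    pl k X h (pl k X g E) ≅ pl k X (h ≫ g) E :=
  (Scheme.Modules.pullbackComp (PicF.XTmap (st k X) h) (PicF.XTmap (st k X) g)).app E ≪≫
    (Scheme.Modules.pullbackCongr (XTmap_comp h g)).app E

/-- Functoriality of the pull-back of families. -/
noncomputable def plI {T T' : Over (B0 k)} (g : T' ⟶ T) {E F : (PicF.XT (st k X) T).Modules} (e : E ≅ F) :
    pl k X g E ≅ pl k X g F := (Scheme.Modules.pullback (PicF.XTmap (st k X) g)).mapIso e

end

section Fact

variable {k : Type u} [Field k]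

/-- The spectrum of the residue field of a point, over `k`. -/
noncomputable abbrev rpt (T : Over (B0 k)) (t : T.left) : Over (B0 k) :=
  Over.mk (T.left.fromSpecResidueField t ≫ T.hom)

/-- The inclusion of a point. -/
noncomputable abbrev rin (T : Over (B0 k)) (t : T.left) : rpt T t ⟶ T := Over.homMk (T.left.fromSpecResidueField t) rfl

theorem rin_apply (T : Over (B0 k)) (t : T.left) (p) : (rin T t).left p = t :=
  T.left.fromSpecResidueField_apply t p

/-- A morphism to an open subscheme. -/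
theorem exists_opn {T' T : Over (B0 k)} (U : T.left.Opens) (g : T' ⟶ T) (h : ∀ x, g.left x ∈ U) :
    ∃ g' : T' ⟶ opn T U, g' ≫ opi T U = g := by
  have hr : Set.range g.left ⊆ Set.range U.ι := by
    rw [Scheme.Opens.range_ι]
    rintro _ ⟨x, rfl⟩
    exact h x
  have hl : IsOpenImmersion.lift U.ι g.left hr ≫ U.ι = g.left := IsOpenImmersion.lift_fac _ _ _
  refine ⟨Over.homMk (IsOpenImmersion.lift U.ι g.left hr) ?_, ?_⟩
  · change IsOpenImmersion.lift U.ι g.left hr ≫ U.ι ≫ T.hom = T'.hom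
    rw [reassoc_of% hl, Over.w]
  · apply Over.OverMorphism.ext
    exact hl

end Fact

section

variable {k : Type u} [Field k] {X : Scheme.{u}} [X.Over (Spec (CommRingCat.of k))]
  {Q : ∀ T : Over (B0 k), (ModFun.modProb (st k X)).Fam T → Prop} (A : AtlasC k X Q)

namespace AtlasC

/-- The points `z` of the atlas such that `E_z ≅ F_t` for some point `t` of `T`, over some field. -/
def orbSet (T : Over (B0 k)) (F : (PicF.XT (st k X) T).Modules) : Set A.Z.left :=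
  {z | ∃ (Ω : Type u) (_ : Field Ω) (s : Spec (CommRingCat.of Ω) ⟶ B0 k) (p : Over.mk s ⟶ A.Z) (q : Over.mk s ⟶ T),
    z ∈ Set.range p.left ∧ Nonempty (pl k X p A.E ≅ pl k X q F)}

/-- The action morphism of a point. -/
noncomputable def mo {T : Over (B0 k)} (c : T ⟶ A.Z) : GLT A.b A.a T ⟶ A.Z :=
  A.act (GLT.u A.b A.a T) (GLT.v A.b A.a T) (GLT.pr A.b A.a T ≫ c)

theorem mo_iso {T T' : Over (B0 k)} (c : T ⟶ A.Z) (p : T' ⟶ GLT A.b A.a T) :
    Nonempty (pl k X (p ≫ A.mo c) A.E ≅ pl k X (p ≫ GLT.pr A.b A.a T ≫ c) A.E) := by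
  obtain ⟨e⟩ := A.act_E (GLT.u A.b A.a T) (GLT.v A.b A.a T) (GLT.pr A.b A.a T ≫ c)
  exact ⟨(plC _ _ _).symm ≪≫ plI p e ≪≫ plC _ _ _⟩

theorem exists_mo {T T' : Over (B0 k)} (c : T ⟶ A.Z) (p : T' ⟶ A.Z) (q : T' ⟶ T)
    (h : Nonempty (pl k X p A.E ≅ pl k X (q ≫ c) A.E)) :
    ∃ p' : T' ⟶ GLT A.b A.a T, p' ≫ A.mo c = p ∧ p' ≫ GLT.pr A.b A.a T = q := by
  obtain ⟨e⟩ := h
  obtain ⟨x, y, hxy⟩ := A.orb (q ≫ c) p ⟨e.symm⟩
  obtain ⟨p', h1, h2, h3⟩ := GLT.exists_lift q x y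
  refine ⟨p', ?_, h1⟩
  rw [mo, A.act_nat, h2, h3, ← Category.assoc, h1, hxy]

/-- The set of a family coming from a point of the atlas. -/
theorem orbSet_eq {T : Over (B0 k)} (c : T ⟶ A.Z) (F : (PicF.XT (st k X) T).Modules)
    (e : Nonempty (pl k X c A.E ≅ F)) : A.orbSet T F = Set.range (A.mo c).left := by
  obtain ⟨e⟩ := e
  ext z
  constructor
  · rintro ⟨Ω, _, s, p, q, ⟨w, hw⟩, ⟨i⟩⟩
    obtain ⟨p', h1, -⟩ := A.exists_mo c p q ⟨i ≪≫ plI q e.symm ≪≫ plC _ _ _⟩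
    refine ⟨p'.left w, ?_⟩
    rw [← Scheme.Hom.comp_apply, ← Over.comp_left, h1, hw]
  · rintro ⟨w, rfl⟩
    obtain ⟨i⟩ := A.mo_iso c (rin _ w)
    refine ⟨(GLT A.b A.a T).left.residueField w, inferInstance, (rpt _ w).hom, rin _ w ≫ A.mo c,
      rin _ w ≫ GLT.pr A.b A.a T, ⟨IsLocalRing.closedPoint _, ?_⟩, ⟨i ≪≫
      (plC (rin _ w ≫ GLT.pr A.b A.a T) c A.E).symm ≪≫ plI _ e⟩⟩
    exact congrArg (A.mo c).left (rin_apply _ w (IsLocalRing.closedPoint _))

theorem orbSet_pull {T T' : Over (B0 k)} (g : T' ⟶ T) (F : (PicF.XT (st k X) T).Modules) :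
    A.orbSet T' (pl k X g F) ⊆ A.orbSet T F := by
  rintro z ⟨Ω, _, s, p, q, hz, ⟨i⟩⟩
  exact ⟨Ω, _, s, p, q ≫ g, hz, ⟨i ≪≫ plC _ _ _⟩⟩

theorem isIrreducible_orbSet_of_lift {T : Over (B0 k)} [IrreducibleSpace T.left] (c : T ⟶ A.Z)
    (F : (PicF.XT (st k X) T).Modules) (e : Nonempty (pl k X c A.E ≅ F)) : IsIrreducible (A.orbSet T F) := by
  rw [A.orbSet_eq c F e, ← Set.image_univ]
  exact (IrreducibleSpace.isIrreducible_univ _).image _ (A.mo c).left.continuous.continuousOn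

/-- The points of the atlas which are isomorphic to the fibre at `t`. -/
theorem mem_orbSet_rpt {T : Over (B0 k)} {F : (PicF.XT (st k X) T).Modules} {Ω : Type u} [Field Ω]
    {s : Spec (CommRingCat.of Ω) ⟶ B0 k} (p : Over.mk s ⟶ A.Z) (q : Over.mk s ⟶ T) {z : A.Z.left}
    (hz : z ∈ Set.range p.left) (i : Nonempty (pl k X p A.E ≅ pl k X q F)) (t : T.left)
    (ht : q.left (IsLocalRing.closedPoint Ω) = t) : z ∈ A.orbSet (rpt T t) (pl k X (rin T t) F) := by
  subst ht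
  obtain ⟨i⟩ := i
  obtain ⟨g₀, hg₀⟩ : ∃ g₀ : Spec (CommRingCat.of Ω) ⟶ Spec (T.left.residueField (q.left (IsLocalRing.closedPoint Ω))),
      g₀ ≫ T.left.fromSpecResidueField (q.left (IsLocalRing.closedPoint Ω)) = q.left := by
    have f : Spec (CommRingCat.of Ω) ⟶ T.left := q.left
    have key : ∀ f : Spec (CommRingCat.of Ω) ⟶ T.left, ∃ g₀ : Spec (CommRingCat.of Ω) ⟶
        Spec (T.left.residueField (f (IsLocalRing.closedPoint Ω))),
        g₀ ≫ T.left.fromSpecResidueField (f (IsLocalRing.closedPoint Ω)) = f := fun f =>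
      ⟨_, Scheme.descResidueField_stalkClosedPointTo_fromSpecResidueField Ω T.left f⟩
    exact key q.left
  let g : Over.mk s ⟶ rpt T (q.left (IsLocalRing.closedPoint Ω)) :=
    Over.homMk g₀ (by
      change g₀ ≫ T.left.fromSpecResidueField _ ≫ T.hom = s
      rw [reassoc_of% hg₀]
      exact Over.w q)
  have hg : g ≫ rin T _ = q := Over.OverMorphism.ext hg₀
  exact ⟨Ω, _, s, p, g, hz, ⟨i ≪≫ eqToIso (by rw [hg]) ≪≫ (plC g (rin T _) F).symm⟩⟩

theorem exists_rpt {T : Over (B0 k)} {F : (PicF.XT (st k X) T).Modules} {z : A.Z.left} (hz : z ∈ A.orbSet T F) :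
    ∃ t : T.left, z ∈ A.orbSet (rpt T t) (pl k X (rin T t) F) := by
  obtain ⟨Ω, _, s, p, q, hz, i⟩ := hz
  exact ⟨_, A.mem_orbSet_rpt p q hz i _ rfl⟩

theorem mo_nat {T T' : Over (B0 k)} (g : T' ⟶ T) (c : T ⟶ A.Z) :
    ∃ m : GLT A.b A.a T' ⟶ GLT A.b A.a T, m ≫ GLT.pr A.b A.a T = GLT.pr A.b A.a T' ≫ g ∧
      m ≫ A.mo c = A.mo (g ≫ c) := by
  obtain ⟨m, h1, h2, h3⟩ := GLT.exists_lift (GLT.pr A.b A.a T' ≫ g) (GLT.u A.b A.a T') (GLT.v A.b A.a T')
  refine ⟨m, h1, ?_⟩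
  rw [mo, A.act_nat, h2, h3, ← Category.assoc, h1, mo, Category.assoc]

theorem isOpen_meets {T : Over (B0 k)} {F : (PicF.XT (st k X) T).Modules} (hF : Q T F) {O : Set A.Z.left}
    (hO : IsOpen O) : IsOpen {t : T.left | (A.orbSet (rpt T t) (pl k X (rin T t) F) ∩ O).Nonempty} := by
  rw [isOpen_iff_forall_mem_open]
  rintro t ⟨z, hz, hzO⟩
  obtain ⟨U, c, htU, ⟨e⟩⟩ := A.lift T F hF t
  obtain ⟨r', hr'⟩ := exists_opn U (rin T t) (fun x => by rw [rin_apply]; exact htU)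
  have e' : Nonempty (pl k X (r' ≫ c) A.E ≅ pl k X (rin T t) F) :=
    ⟨(plC r' c A.E).symm ≪≫ plI r' e ≪≫ plC r' (opi T U) F ≪≫ eqToIso (by rw [hr'])⟩
  rw [A.orbSet_eq (r' ≫ c) _ e'] at hz
  obtain ⟨w, rfl⟩ := hz
  obtain ⟨m, hm1, hm2⟩ := A.mo_nat r' c
  let W : Set (GLT A.b A.a (opn T U)).left := (A.mo c).left ⁻¹' O
  have hW : IsOpen W := hO.preimage (A.mo c).left.continuous
  have hpr : IsOpenMap (GLT.pr A.b A.a (opn T U)).left := by
    have := GLT.smooth_pr (b := A.b) (a := A.a) (T := opn T U)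
    exact (GLT.pr A.b A.a (opn T U)).left.isOpenMap
  refine ⟨(opi T U).left '' ((GLT.pr A.b A.a (opn T U)).left '' W), ?_,
    U.ι.isOpenEmbedding.isOpenMap _ (hpr _ hW), ?_⟩
  · rintro _ ⟨_, ⟨p', hp', rfl⟩, rfl⟩
    refine ⟨(A.mo c).left p', ?_, hp'⟩
    obtain ⟨i⟩ := A.mo_iso c (rin _ p')
    refine A.mem_orbSet_rpt (Ω := (GLT A.b A.a (opn T U)).left.residueField p') (s := (rpt _ p').hom)
      (rin _ p' ≫ A.mo c) (rin _ p' ≫ GLT.pr A.b A.a (opn T U) ≫ opi T U)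
      ⟨IsLocalRing.closedPoint _, congrArg (A.mo c).left (rin_apply _ p' (IsLocalRing.closedPoint _))⟩ ?_ _ ?_
    · exact ⟨i ≪≫ (plC (rin _ p' ≫ GLT.pr A.b A.a (opn T U)) c A.E).symm ≪≫
        plI (rin _ p' ≫ GLT.pr A.b A.a (opn T U)) e ≪≫
        plC (rin _ p' ≫ GLT.pr A.b A.a (opn T U)) (opi T U) F⟩
    · exact congrArg (fun x => (opi T U).left ((GLT.pr A.b A.a (opn T U)).left x))
        (rin_apply _ p' (IsLocalRing.closedPoint _))
  · refine ⟨(GLT.pr A.b A.a (opn T U)).left (m.left w), ⟨m.left w, ?_, rfl⟩, ?_⟩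
    · change (A.mo c).left (m.left w) ∈ O
      rw [← Scheme.Hom.comp_apply, ← Over.comp_left, hm2]
      exact hzO
    · have h1 : (m ≫ GLT.pr A.b A.a (opn T U) ≫ opi T U).left w = t := by
        rw [← Category.assoc, hm1, Category.assoc, hr']
        exact rin_apply T t _
      exact h1

/-- The points of the atlas coming from an irreducible family are irreducible. -/
theorem isPreirreducible_orbSet {T : Over (B0 k)} [IrreducibleSpace T.left] {F : (PicF.XT (st k X) T).Modules}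
    (hF : Q T F) : IsPreirreducible (A.orbSet T F) := by
  rintro O₁ O₂ hO₁ hO₂ ⟨z₁, hz₁, h₁⟩ ⟨z₂, hz₂, h₂⟩
  obtain ⟨t₁, ht₁⟩ := A.exists_rpt hz₁
  obtain ⟨t₂, ht₂⟩ := A.exists_rpt hz₂
  obtain ⟨t, ⟨y₁, hy₁, hy₁'⟩, ⟨y₂, hy₂, hy₂'⟩⟩ := nonempty_preirreducible_inter (A.isOpen_meets hF hO₁)
    (A.isOpen_meets hF hO₂) ⟨t₁, z₁, ht₁, h₁⟩ ⟨t₂, z₂, ht₂, h₂⟩
  -- the fibre at `t`
  obtain ⟨U, c, htU, ⟨e⟩⟩ := A.lift T F hF t
  obtain ⟨r', hr'⟩ := exists_opn U (rin T t) (fun x => by rw [rin_apply]; exact htU)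
  have e' : Nonempty (pl k X (r' ≫ c) A.E ≅ pl k X (rin T t) F) :=
    ⟨(plC r' c A.E).symm ≪≫ plI r' e ≪≫ plC r' (opi T U) F ≪≫ eqToIso (by rw [hr'])⟩
  have hirr : IrreducibleSpace (rpt T t).left := by
    change IrreducibleSpace (Spec (T.left.residueField t))
    infer_instance
  have h3 := (A.isIrreducible_orbSet_of_lift (r' ≫ c) _ e').2 O₁ O₂ hO₁ hO₂ ⟨y₁, hy₁, hy₁'⟩ ⟨y₂, hy₂, hy₂'⟩
  obtain ⟨y, hy, hy'⟩ := h3
  exact ⟨y, A.orbSet_pull (rin T t) F hy, hy'⟩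

/-- Closed points of the atlas are rational points. -/
theorem exists_pt [IsAlgClosed k] (z : A.Z.left) (hz : IsClosed {z}) :
    ∃ c : Over.mk (𝟙 (B0 k)) ⟶ A.Z, ∀ p, c.left p = z := by
  have := A.ft
  exact ⟨Over.homMk (pointOfClosedPoint A.Z.hom z hz) (pointOfClosedPoint_comp _ _ _), fun p =>
    pointOfClosedPoint_apply _ _ _ p⟩

theorem mem_orbSet_of_pt {T : Over (B0 k)} {F : (PicF.XT (st k X) T).Modules} {z : A.Z.left}
    {c : Over.mk (𝟙 (B0 k)) ⟶ A.Z} (hc : ∀ p, c.left p = z) (t : Over.mk (𝟙 (B0 k)) ⟶ T)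
    (e : Nonempty (pl k X c A.E ≅ pl k X t F)) : z ∈ A.orbSet T F :=
  ⟨k, inferInstance, 𝟙 _, c, t, ⟨IsLocalRing.closedPoint k, hc _⟩, e⟩

/-- A closed subset of the atlas whose rational points are the ones of an irreducible family is irreducible. -/
theorem isPreirreducible_of_pt [IsAlgClosed k] {T : Over (B0 k)} [IrreducibleSpace T.left]
    {F : (PicF.XT (st k X) T).Modules} (hF : Q T F) {W : Set A.Z.left} (hW : IsClosed W)
    (h₁ : ∀ c : Over.mk (𝟙 (B0 k)) ⟶ A.Z, (∀ p, c.left p ∈ W) → ∃ t : Over.mk (𝟙 (B0 k)) ⟶ T,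
      Nonempty (pl k X c A.E ≅ pl k X t F))
    (h₂ : A.orbSet T F ⊆ W) : IsPreirreducible W := by
  have := A.ft
  have hJ : JacobsonSpace A.Z.left := LocallyOfFiniteType.jacobsonSpace A.Z.hom
  have h3 : closure (A.orbSet T F) = W := by
    refine subset_antisymm (hW.closure_subset_iff.mpr h₂) ?_
    have h4 := JacobsonSpace.closure_inter_closedPoints_eq_closure hW.isLocallyClosed
    rw [hW.closure_eq] at h4
    rw [← h4]
    refine closure_mono ?_
    rintro z ⟨hz, hz'⟩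
    obtain ⟨c, hc⟩ := A.exists_pt z hz'
    obtain ⟨t, e⟩ := h₁ c (fun p => by rw [hc]; exact hz)
    exact A.mem_orbSet_of_pt hc t e
  rw [← h3]
  exact (A.isPreirreducible_orbSet hF).closure

/-- The atlas is irreducible if its rational points are the ones of an irreducible family. -/
theorem irreducibleSpace [IsAlgClosed k] {T : Over (B0 k)} [IrreducibleSpace T.left]
    {F : (PicF.XT (st k X) T).Modules} (hF : Q T F)
    (h₁ : ∀ c : Over.mk (𝟙 (B0 k)) ⟶ A.Z, ∃ t : Over.mk (𝟙 (B0 k)) ⟶ T, Nonempty (pl k X c A.E ≅ pl k X t F)) :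
    IrreducibleSpace A.Z.left := by
  have hne : Nonempty A.Z.left := by
    have h : Nonempty T.left := inferInstance
    obtain ⟨U, c, hU, -⟩ := A.lift T F hF h.some
    exact ⟨c.left ⟨h.some, hU⟩⟩
  have h2 := A.isPreirreducible_of_pt hF isClosed_univ (fun c _ => h₁ c) (Set.subset_univ _)
  exact { isPreirreducible_univ := h2, toNonempty := hne }

end AtlasC

end

end K140.BM
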